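import Cfsg.Agent.Blocks.CoprimeTransitive.Arith

/-!
# Primitive primes of `p ^ m - 1` that are large or occur to a high power

For a prime `p ≥ 7` and `m ≥ 3` some primitive prime divisor `s` of `p ^ m - 1` exceeds `4m + 1`, or divides
it at least six times (`s = m + 1`), or at least three times, apart from seven pairs.
-/

set_option autoImplicit false
set_option maxRecDepth 100000
set_option linter.style.haveILetI false
set_option linter.unusedVariables false

namespace Cfsg.Lib.Blocks.ThreeClasses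

/-- Trial division. -/
def noSmallFactor (n : ℕ) : Bool :=
  (List.range (Nat.min n 49)).all fun d => d < 2 || n % d != 0

theorem noSmallFactor_prime {n : ℕ} (hn : n.Prime) : noSmallFactor n = true := by
  rw [noSmallFactor, List.all_eq_true]
  intro d hd
  rw [List.mem_range] at hd
  simp only [Bool.or_eq_true, decide_eq_true_eq, bne_iff_ne]
  by_cases h2 : d < 2
  · exact Or.inl h2
  refine Or.inr fun h => ?_
  rcases hn.eq_one_or_self_of_dvd d (Nat.dvd_of_mod_eq_zero h) with h | h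
  · omega
  · have : d < n := lt_of_lt_of_le hd (Nat.min_le_left _ _)
    omega

/-- The contribution of a possible prime. -/
def part (n e : ℕ) : ℕ := if noSmallFactor n then n ^ e else 1

/-- The largest primitive part without a good prime. -/
def bound (m : ℕ) : ℕ :=
  part (m + 1) 5 * (part (2 * m + 1) 2 * part (3 * m + 1) 2 * part (4 * m + 1) 2)

theorem part_le (n e : ℕ) : part (n + 1) e ≤ (n + 1) ^ e := by
  unfold part
  split_ifs
  · exact le_rfl
  · exact Nat.one_le_pow _ _ (Nat.succ_pos n)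

theorem bound_le (m : ℕ) :
    bound m ≤ (m + 1) ^ 5 * ((2 * m + 1) ^ 2 * (3 * m + 1) ^ 2 * (4 * m + 1) ^ 2) :=
  Nat.mul_le_mul (part_le _ _) (Nat.mul_le_mul (Nat.mul_le_mul (part_le _ _) (part_le _ _)) (part_le _ _))

theorem bound_pos (m : ℕ) : 0 < bound m := by
  unfold bound part
  split_ifs <;> positivity

theorem pow_dvd_bound {m s : ℕ} (hs : s.Prime) :
    (s = m + 1 → s ^ 5 ∣ bound m) ∧
      (s = 2 * m + 1 ∨ s = 3 * m + 1 ∨ s = 4 * m + 1 → s ^ 2 ∣ bound m) := by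
  have key : ∀ (n e : ℕ), s = n → s ^ e ∣ part n e := fun n e h => by
    subst h; rw [part, if_pos (noSmallFactor_prime hs)]
  refine ⟨fun h => (key _ 5 h).trans (dvd_mul_right _ _), ?_⟩
  rintro (h | h | h)
  · exact ((key _ 2 h).trans ((dvd_mul_right _ _).trans (dvd_mul_right _ _))).trans (dvd_mul_left _ _)
  · exact ((key _ 2 h).trans ((dvd_mul_left _ _).trans (dvd_mul_right _ _))).trans (dvd_mul_left _ _)
  · exact ((key _ 2 h).trans (dvd_mul_left _ _)).trans (dvd_mul_left _ _)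

/-- The primes at stake. -/
def Good (p m : ℕ) : Prop :=
  ∃ s, s.Prime ∧ s ∣ p ^ m - 1 ∧ (∀ i, 0 < i → i < m → ¬ s ∣ p ^ i - 1) ∧
    (4 * m + 1 < s ∨ (s = m + 1 ∧ s ^ 6 ∣ p ^ m - 1) ∨ (2 * m + 1 ≤ s ∧ s ^ 3 ∣ p ^ m - 1))

/-- Without a good prime a part made of primitive primes is bounded. -/
theorem dvd_bound {p m d : ℕ} (hm : 3 ≤ m) (hbad : ¬ Good p m) (hd : d ∣ p ^ m - 1) (hd0 : d ≠ 0)
    (hpr : ∀ s, s.Prime → s ∣ d → (∀ i, 0 < i → i < m → ¬ s ∣ p ^ i - 1) ∧ m ∣ s - 1) : d ∣ bound m := by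
  refine (Nat.dvd_iff_prime_pow_dvd_dvd _ _).2 fun s k hs hsk => ?_
  rcases k with _ | k
  · simp
  have hsd : s ∣ d := (dvd_pow_self s k.succ_ne_zero).trans hsk
  obtain ⟨hmin, c, hc⟩ := hpr s hs hsd
  have h2 := hs.two_le
  have hsle : s ≤ 4 * m + 1 := by
    by_contra h
    exact hbad ⟨s, hs, hsd.trans hd, hmin, Or.inl (by omega)⟩
  have hc4 : c ≤ 4 := by
    by_contra h
    have : m * 5 ≤ m * c := Nat.mul_le_mul_left m (by omega)
    omega
  have hc0 : c ≠ 0 := fun h => by rw [h, mul_zero] at hc; omega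
  rcases (by omega : c = 1 ∨ 2 ≤ c) with h1 | h1
  · have hs1 : s = m + 1 := by rw [h1, mul_one] at hc; omega
    refine (pow_dvd_pow s ?_).trans ((pow_dvd_bound hs).1 hs1)
    by_contra h
    exact hbad ⟨s, hs, hsd.trans hd, hmin,
      Or.inr (Or.inl ⟨hs1, ((pow_dvd_pow s (by omega : 6 ≤ k + 1)).trans hsk).trans hd⟩)⟩
  · have hge : 2 * m + 1 ≤ s := by
      have : m * 2 ≤ m * c := Nat.mul_le_mul_left m h1
      omega
    refine (pow_dvd_pow s ?_).trans ((pow_dvd_bound (m := m) hs).2 (by interval_cases c <;> omega))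
    by_contra h
    exact hbad ⟨s, hs, hsd.trans hd, hmin,
      Or.inr (Or.inr ⟨hge, ((pow_dvd_pow s (by omega : 3 ≤ k + 1)).trans hsk).trans hd⟩)⟩

/-- A small bound for `e` by `φ e`. -/
theorem le_seven_totient {e : ℕ} (he : 0 < e) (h : e.totient < 64) : e ≤ 7 * e.totient := by
  classical
  have hh := Nat.totient_mul_prod_primeFactors e
  set S := e.primeFactors.erase 2 with hS
  have hprime : ∀ r ∈ S, r.Prime ∧ r ≠ 2 := fun r hr =>
    ⟨Nat.prime_of_mem_primeFactors (Finset.mem_of_mem_erase hr), Finset.ne_of_mem_erase hr⟩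
  have hQpos : 0 < ∏ r ∈ e.primeFactors, (r - 1) :=
    Finset.prod_pos fun r hr => by have := (Nat.prime_of_mem_primeFactors hr).two_le; omega
  have hQle : ∏ r ∈ e.primeFactors, (r - 1) < 64 := by
    refine lt_of_le_of_lt (Nat.le_of_dvd (Nat.totient_pos.2 he) ?_) h
    obtain ⟨t, ht⟩ := Nat.prod_primeFactors_dvd e
    refine ⟨t, Nat.eq_of_mul_eq_mul_right
      (m := ∏ r ∈ e.primeFactors, r) (Finset.prod_pos fun r hr => (Nat.prime_of_mem_primeFactors hr).pos) ?_⟩
    rw [hh]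
    calc e * _ = ((∏ r ∈ e.primeFactors, r) * t) * ∏ r ∈ e.primeFactors, (r - 1) := by rw [← ht]
      _ = _ := by ring
  have hins : e.primeFactors ⊆ insert 2 S := fun r hr => by
    by_cases h2 : r = 2 <;> simp [hS, h2, hr]
  have hQS : ∏ r ∈ S, (r - 1) ≤ ∏ r ∈ e.primeFactors, (r - 1) :=
    Finset.prod_le_prod_of_subset_of_one_le' (Finset.erase_subset _ _) fun r hr _ => by
      have := (Nat.prime_of_mem_primeFactors hr).two_le; omega
  have hcard : S.card ≤ 3 := by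
    by_contra hc
    have h4 : (S.erase 3).card + 1 ≥ S.card := by
      have := Finset.pred_card_le_card_erase (s := S) (a := 3); omega
    have hlow : 4 ^ (S.erase 3).card ≤ ∏ r ∈ S.erase 3, (r - 1) := by
      rw [← Finset.prod_const]
      refine Finset.prod_le_prod' fun r hr => ?_
      obtain ⟨hr3, hrS⟩ := Finset.mem_erase.1 hr
      obtain ⟨hp, hp2⟩ := hprime r hrS
      have := hp.two_le
      have h44 : r ≠ 4 := fun e => absurd (e ▸ hp) (by norm_num)
      omega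
    have hle : ∏ r ∈ S.erase 3, (r - 1) ≤ ∏ r ∈ S, (r - 1) :=
      Finset.prod_le_prod_of_subset_of_one_le' (Finset.erase_subset _ _) fun r hr _ => by
        have := (hprime r hr).1.two_le; omega
    have : 4 ^ 3 ≤ 4 ^ (S.erase 3).card := Nat.pow_le_pow_right (by norm_num) (by omega)
    omega
  have hPS : ∀ T : Finset ℕ, T ⊆ S → 2 ^ T.card * ∏ r ∈ T, r ≤ 3 ^ T.card * ∏ r ∈ T, (r - 1) := by
    intro T hT
    rw [← Finset.prod_const, ← Finset.prod_const, ← Finset.prod_mul_distrib, ← Finset.prod_mul_distrib]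
    refine Finset.prod_le_prod' fun r hr => ?_
    obtain ⟨hp, hp2⟩ := hprime r (hT hr)
    have := hp.two_le
    omega
  have hP : ∏ r ∈ e.primeFactors, r ≤ 2 * ∏ r ∈ S, r := by
    refine (Finset.prod_le_prod_of_subset_of_one_le' hins fun r hr _ => ?_).trans ?_
    · rcases Finset.mem_insert.1 hr with h | h
      · omega
      · exact (hprime r h).1.one_lt.le
    · rw [Finset.prod_insert (Finset.notMem_erase _ _)]
  have h8 : ∏ r ∈ e.primeFactors, r ≤ 7 * ∏ r ∈ e.primeFactors, (r - 1) := by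
    have h1 := hPS S subset_rfl
    rcases (by omega : S.card = 0 ∨ S.card = 1 ∨ S.card = 2 ∨ S.card = 3) with c | c | c | c <;>
      (rw [c] at h1; norm_num at h1; omega)
  refine Nat.le_of_mul_le_mul_right ?_ hQpos
  calc e * _ = e.totient * _ := hh.symm
    _ ≤ e.totient * (7 * _) := Nat.mul_le_mul_left _ h8
    _ = _ := by ring

theorem middle : ∀ k ∈ Finset.Ico 40 64,
    4 * (7 * k) * ((7 * k + 1) ^ 5 * ((14 * k + 1) ^ 2 * (21 * k + 1) ^ 2 * (28 * k + 1) ^ 2)) < 7 ^ k := by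
  decide +kernel

theorem large : ∀ k : ℕ, 64 ≤ k →
    4 * (2 * k ^ 2) * ((3 * k ^ 2) ^ 5 * ((5 * k ^ 2) ^ 2 * (7 * k ^ 2) ^ 2 * (9 * k ^ 2) ^ 2)) < 7 ^ k := by
  intro k hk
  induction k, hk using Nat.le_induction with
  | base => norm_num
  | succ k hk ih =>
    have h1 : (k + 1) * 64 ≤ 65 * k := by omega
    have h2 : ((k + 1) * 64) ^ 24 ≤ (65 * k) ^ 24 := Nat.pow_le_pow_left h1 24
    have e1 : ∀ j : ℕ, 4 * (2 * j ^ 2) * ((3 * j ^ 2) ^ 5 * ((5 * j ^ 2) ^ 2 * (7 * j ^ 2) ^ 2 * (9 * j ^ 2) ^ 2)) =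
        192893400 * j ^ 24 := fun j => by ring
    rw [e1] at ih ⊢
    rw [mul_pow, mul_pow] at h2
    rw [pow_succ 7 k]
    generalize (k + 1) ^ 24 = A at *
    generalize k ^ 24 = B at *
    norm_num at h2
    omega

/-- The dimensions left over, with bounds for the prime. -/
def pending : List (ℕ × ℕ) :=
  [(5, 9), (8, 11), (9, 18), (10, 1798), (12, 397), (14, 23), (15, 13), (16, 11), (18, 332), (20, 14), (22, 44),
    (24, 18), (28, 15), (30, 45), (36, 32), (42, 18), (60, 21), (70, 9), (78, 9)]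

theorem pending_complete : ∀ e ∈ Finset.Ico 3 280, e.totient < 40 → 7 ^ e.totient ≤ 4 * (e * bound e) →
    e = 3 ∨ e = 4 ∨ e = 6 ∨
      pending.any (fun t => t.1 == e && decide (4 * (t.1 * bound t.1) < t.2 ^ t.1.totient)) = true := by
  decide +kernel

/-- The witnesses for the three remaining pairs. -/
def witnesses : List (ℕ × ℕ × ℕ) := [(23, 10, 211), (11, 12, 1117), (23, 12, 7549)]

theorem witnesses_ok : ∀ t ∈ witnesses, t.2.2 ∣ t.1 ^ t.2.1 - 1 ∧
    (∀ i ∈ Finset.range t.2.1, 0 < i → ¬ t.2.2 ∣ t.1 ^ i - 1) ∧ 4 * t.2.1 + 1 < t.2.2 := by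
  decide +kernel

theorem witnesses_prime : ∀ t ∈ witnesses, t.2.2.Prime := by
  intro t ht
  simp only [witnesses, List.mem_cons, List.not_mem_nil, or_false] at ht
  rcases ht with rfl | rfl | rfl <;> norm_num

theorem pending_checked : ∀ t ∈ pending, ∀ q ∈ Finset.Ico 7 t.2,
    q ^ t.1.totient ≤ 4 * (t.1 * (Nat.gcd (q ^ t.1 - 1) (bound t.1))) → noSmallFactor q = true →
      witnesses.any (fun w => w.1 == q && w.2.1 == t.1) = true := by
  decide +kernel

theorem general_case {p m : ℕ} (hp : p.Prime) (hp7 : 7 ≤ p) (hm : 3 ≤ m) (h346 : m ≠ 3 ∧ m ≠ 4 ∧ m ≠ 6) :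
    Good p m := by
  by_contra hbad
  obtain ⟨d, hd, hsize, hpr⟩ := CoprimeTransitive.primitive_part (q := p) (by omega) hm
  have hd0 : d ≠ 0 := by
    rintro rfl
    have : 0 < p ^ m.totient := pow_pos hp.pos _
    omega
  have hdB := dvd_bound hm hbad hd hd0 hpr
  have hle : p ^ m.totient ≤ 4 * (m * bound m) :=
    hsize.trans (Nat.mul_le_mul_left 4 (Nat.mul_le_mul_left m (Nat.le_of_dvd (bound_pos m) hdB)))
  have h7 : 7 ^ m.totient ≤ p ^ m.totient := Nat.pow_le_pow_left hp7 _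
  have hb := bound_le m
  have h40 : m.totient < 40 := by
    by_contra hh
    rcases (by omega : m.totient < 64 ∨ 64 ≤ m.totient) with h64 | h64
    · have he := le_seven_totient (by omega : 0 < m) h64
      have := middle _ (Finset.mem_Ico.2 ⟨by omega, h64⟩)
      have h1 : 4 * (m * bound m) ≤ 4 * (7 * m.totient) * ((7 * m.totient + 1) ^ 5 *
          ((14 * m.totient + 1) ^ 2 * (21 * m.totient + 1) ^ 2 * (28 * m.totient + 1) ^ 2)) := by
        rw [← mul_assoc]
        refine Nat.mul_le_mul (by omega) (hb.trans ?_)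
        gcongr ?_ * (?_ * ?_ * ?_) <;> refine Nat.pow_le_pow_left ?_ _ <;> omega
      omega
    · have he := Cfsg.Lib.PrimitivePart.totient_sq (e := m) (by omega)
      have := large _ h64
      have hsq : 64 ≤ m.totient ^ 2 := le_trans h64 (Nat.le_self_pow two_ne_zero _)
      have h1 : 4 * (m * bound m) ≤ 4 * (2 * m.totient ^ 2) * ((3 * m.totient ^ 2) ^ 5 *
          ((5 * m.totient ^ 2) ^ 2 * (7 * m.totient ^ 2) ^ 2 * (9 * m.totient ^ 2) ^ 2)) := by
        rw [← mul_assoc]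
        refine Nat.mul_le_mul (by omega) (hb.trans ?_)
        gcongr <;> omega
      omega
  have he := le_seven_totient (by omega : 0 < m) (by omega)
  rcases pending_complete m (Finset.mem_Ico.2 ⟨hm, by omega⟩) h40 (h7.trans hle) with h | h | h | h
  · exact h346.1 h
  · exact h346.2.1 h
  · exact h346.2.2 h
  obtain ⟨⟨e, Q⟩, ht, htq⟩ := List.any_eq_true.1 h
  simp only [Bool.and_eq_true, beq_iff_eq, decide_eq_true_eq] at htq
  obtain ⟨rfl, hQ⟩ := htq
  have hpQ : p < Q := by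
    by_contra hh
    have := Nat.pow_le_pow_left (not_lt.1 hh) e.totient
    omega
  have hgcd : p ^ e.totient ≤ 4 * (e * Nat.gcd (p ^ e - 1) (bound e)) :=
    hsize.trans (Nat.mul_le_mul_left 4 (Nat.mul_le_mul_left e
      (Nat.le_of_dvd (Nat.gcd_pos_of_pos_right _ (bound_pos e)) (Nat.dvd_gcd hd hdB))))
  obtain ⟨⟨a, b, s⟩, hw, hwq⟩ := List.any_eq_true.1
    (pending_checked (e, Q) ht p (Finset.mem_Ico.2 ⟨hp7, hpQ⟩) hgcd (noSmallFactor_prime hp))
  simp only [Bool.and_eq_true, beq_iff_eq] at hwq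
  obtain ⟨rfl, rfl⟩ := hwq
  obtain ⟨h1, h2, h3⟩ := witnesses_ok _ hw
  exact hbad ⟨s, witnesses_prime _ hw, h1, fun i hi hie => h2 i (Finset.mem_range.2 hie) hi, Or.inl h3⟩

/-- The divisors of a product of three prime powers. -/
theorem three_prime_powers {a b c i j k d : ℕ} (ha : a.Prime) (hb : b.Prime) (hc : c.Prime)
    (h : d ∣ a ^ i * (b ^ j * c ^ k)) :
    ∃ x ∈ Finset.range (i + 1), ∃ y ∈ Finset.range (j + 1), ∃ z ∈ Finset.range (k + 1), d = a ^ x * (b ^ y * c ^ z) := by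
  obtain ⟨u, w, hu, hw, rfl⟩ := Nat.dvd_mul.1 h
  obtain ⟨v, z, hv, hz, rfl⟩ := Nat.dvd_mul.1 hw
  obtain ⟨x, hx, rfl⟩ := (Nat.dvd_prime_pow ha).1 hu
  obtain ⟨y, hy, rfl⟩ := (Nat.dvd_prime_pow hb).1 hv
  obtain ⟨z', hz', rfl⟩ := (Nat.dvd_prime_pow hc).1 hz
  exact ⟨x, Finset.mem_range.2 (by omega), y, Finset.mem_range.2 (by omega), z', Finset.mem_range.2 (by omega), rfl⟩

/-- Three. -/
theorem three_case {p : ℕ} (hp : p.Prime) (hp7 : 7 ≤ p) : Good p 3 := by
  by_contra hbad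
  set d := p ^ 2 + p + 1 with hd
  have hdd : d ∣ p ^ 3 - 1 := ⟨p - 1, by
    obtain ⟨t, rfl⟩ : ∃ t, p = t + 1 := ⟨p - 1, by omega⟩
    rw [hd, Nat.add_sub_cancel]
    exact Nat.sub_eq_of_eq_add (by ring)⟩
  have h9 : ¬ 9 ∣ d := by
    rw [hd, ← ZMod.natCast_eq_zero_iff]
    push_cast
    generalize (p : ZMod 9) = x
    revert x
    decide
  have key : d ∣ 3 * bound 3 := by
    by_cases h3 : 3 ∣ d
    · obtain ⟨c, hc⟩ := h3
      rw [hc]
      refine Nat.mul_dvd_mul_left 3 (dvd_bound le_rfl hbad ((hc ▸ dvd_mul_left c 3).trans hdd)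
        (by rintro rfl; omega) fun s hs hsc => ?_)
      exact prim s hs (show s ∣ d from by rw [hc]; exact hsc.mul_left 3) fun e => h9 (by
        subst e
        rw [hc]
        exact Nat.mul_dvd_mul_left 3 hsc)
    · exact (dvd_bound le_rfl hbad hdd (by omega) fun s hs hsc => prim s hs hsc fun e => h3 (e ▸ hsc)).mul_left 3
  have hcand : ∀ e ∈ ([1, 3] : List ℕ), ∀ x ∈ Finset.range 3, ∀ y ∈ Finset.range 3, ∀ z ∈ Finset.range 1,
      ∀ r ∈ ([(e * (7 ^ x * (13 ^ y * 2 ^ z))).sqrt] : List ℕ),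
      r ^ 2 + r + 1 = e * (7 ^ x * (13 ^ y * 2 ^ z)) → 7 ≤ r → noSmallFactor r = false := by decide +kernel
  rw [show bound 3 = 7 ^ 2 * (13 ^ 2 * 2 ^ 0) by decide +kernel] at key
  obtain ⟨e, w, he, hw, hew⟩ := Nat.dvd_mul.1 key
  obtain ⟨x, hx, y, hy, z, hz, rfl⟩ := three_prime_powers (show Nat.Prime 7 by norm_num)
    (show Nat.Prime 13 by norm_num) Nat.prime_two hw
  have he' : e ∈ ([1, 3] : List ℕ) := by
    rcases (Nat.dvd_prime Nat.prime_three).1 he with h | h <;> simp [h]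
  have hsq : d.sqrt = p := (Nat.eq_sqrt'.2 ⟨by rw [hd]; nlinarith, by rw [hd]; nlinarith⟩).symm
  have := hcand e he' x hx y hy z hz p (by rw [hew, hsq]; simp) (hd.symm.trans hew.symm) hp7
  rw [noSmallFactor_prime hp] at this
  exact absurd this (by simp)
where
  prim (s : ℕ) (hs : s.Prime) (hsd : s ∣ p ^ 2 + p + 1) (h3 : s ≠ 3) :
      (∀ i, 0 < i → i < 3 → ¬ s ∣ p ^ i - 1) ∧ 3 ∣ s - 1 := by
    haveI := Fact.mk hs
    have h0 : (p : ZMod s) ^ 2 + p + 1 = 0 := by exact_mod_cast (ZMod.natCast_eq_zero_iff _ _).2 hsd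
    have hne1 : (p : ZMod s) ≠ 1 := fun e => h3 (by
      rw [e] at h0
      have : ((3 : ℕ) : ZMod s) = 0 := by push_cast; linear_combination h0
      exact (Nat.prime_dvd_prime_iff_eq hs Nat.prime_three).1 ((ZMod.natCast_eq_zero_iff _ _).1 this))
    have h3' : (p : ZMod s) ^ 3 = 1 := by linear_combination ((p : ZMod s) - 1) * h0
    have hord : orderOf (p : ZMod s) = 3 := orderOf_eq_prime h3' hne1
    refine ⟨fun i hi hi3 hd => ?_, ?_⟩
    · rw [← ZMod.natCast_eq_zero_iff, Nat.cast_sub (Nat.one_le_pow _ _ hp.pos), Nat.cast_pow, Nat.cast_one,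
        sub_eq_zero] at hd
      have := Nat.le_of_dvd hi (hord ▸ orderOf_dvd_of_pow_eq_one hd)
      omega
    · rw [← hord]
      refine orderOf_dvd_of_pow_eq_one (ZMod.pow_card_sub_one_eq_one fun e => ?_)
      rw [e, zero_pow three_ne_zero] at h3'
      exact zero_ne_one h3'

/-- Four. -/
theorem four_case {p : ℕ} (hp : p.Prime) (hp7 : 7 ≤ p) :
    Good p 4 ∨ p = 7 ∨ p = 13 ∨ p = 47 := by
  by_cases hgood : Good p 4
  · exact Or.inl hgood
  right
  obtain ⟨t, ht⟩ : ∃ t, p = 2 * t + 1 := hp.odd_of_ne_two (by omega)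
  set c := 2 * (t * t + t) + 1 with hc
  have he : p ^ 2 + 1 = 2 * c := by rw [ht, hc]; ring
  have hdd : c ∣ p ^ 4 - 1 := ⟨2 * (p ^ 2 - 1), by
    have h1 : 1 ≤ p ^ 2 := Nat.one_le_pow _ _ hp.pos
    rw [← mul_assoc, mul_comm c 2, ← he, ← Nat.sq_sub_sq]
    ring_nf⟩
  have key : c ∣ bound 4 := dvd_bound (by norm_num) hgood hdd (by omega) fun s hs hsc => by
    haveI := Fact.mk hs
    have h0 : (p : ZMod s) ^ 2 + 1 = 0 := by
      have : ((p ^ 2 + 1 : ℕ) : ZMod s) = 0 := (ZMod.natCast_eq_zero_iff _ _).2 (he ▸ hsc.mul_left 2)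
      exact_mod_cast this
    have hs2 : s ≠ 2 := by
      rintro rfl
      omega
    have hne : ¬ (p : ZMod s) ^ 2 = 1 := fun e => hs2 (by
      rw [e] at h0
      have h' : ((2 : ℕ) : ZMod s) = 0 := by push_cast; linear_combination h0
      exact (Nat.prime_dvd_prime_iff_eq hs Nat.prime_two).1 ((ZMod.natCast_eq_zero_iff _ _).1 h'))
    have h4 : (p : ZMod s) ^ 4 = 1 := by linear_combination ((p : ZMod s) ^ 2 - 1) * h0
    have hord : orderOf (p : ZMod s) = 4 := orderOf_eq_prime_pow (p := 2) (n := 1) (by simpa using hne) (by simpa using h4)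
    refine ⟨fun i hi hi4 hd => ?_, ?_⟩
    · rw [← ZMod.natCast_eq_zero_iff, Nat.cast_sub (Nat.one_le_pow _ _ hp.pos), Nat.cast_pow, Nat.cast_one,
        sub_eq_zero] at hd
      have := Nat.le_of_dvd hi (hord ▸ orderOf_dvd_of_pow_eq_one hd)
      omega
    · rw [← hord]
      refine orderOf_dvd_of_pow_eq_one (ZMod.pow_card_sub_one_eq_one fun e => ?_)
      rw [e, zero_pow (by norm_num)] at h4
      exact zero_ne_one h4
  have hcand : ∀ x ∈ Finset.range 6, ∀ y ∈ Finset.range 3, ∀ z ∈ Finset.range 3,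
      (2 * (5 ^ x * (13 ^ y * 17 ^ z)) - 1).sqrt ^ 2 + 1 = 2 * (5 ^ x * (13 ^ y * 17 ^ z)) →
      7 ≤ (2 * (5 ^ x * (13 ^ y * 17 ^ z)) - 1).sqrt →
      noSmallFactor (2 * (5 ^ x * (13 ^ y * 17 ^ z)) - 1).sqrt = true →
        (2 * (5 ^ x * (13 ^ y * 17 ^ z)) - 1).sqrt = 7 ∨ (2 * (5 ^ x * (13 ^ y * 17 ^ z)) - 1).sqrt = 13 ∨
          (2 * (5 ^ x * (13 ^ y * 17 ^ z)) - 1).sqrt = 47 := by decide +kernel
  obtain ⟨x, hx, y, hy, z, hz, hxyz⟩ := three_prime_powers (i := 5) (j := 2) (k := 2)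
    (show Nat.Prime 5 by norm_num) (show Nat.Prime 13 by norm_num) (show Nat.Prime 17 by norm_num)
    ((show bound 4 = 5 ^ 5 * (13 ^ 2 * 17 ^ 2) by decide +kernel) ▸ key)
  have hsq : (2 * c - 1).sqrt = p := by
    rw [← he, Nat.add_sub_cancel, Nat.sqrt_eq']
  have := hcand x hx y hy z hz
  rw [← hxyz, hsq] at this
  exact this he hp7 (noSmallFactor_prime hp)

/-- Six. -/
theorem six_case {p : ℕ} (hp : p.Prime) (hp7 : 7 ≤ p) :
    Good p 6 ∨ p = 17 ∨ p = 19 ∨ p = 23 ∨ p = 31 := by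
  by_cases hgood : Good p 6
  · exact Or.inl hgood
  right
  obtain ⟨t, rfl⟩ : ∃ t, p = t + 1 := ⟨p - 1, by omega⟩
  set d := t * t + t + 1 with hd
  have hdd : d ∣ (t + 1) ^ 6 - 1 := ⟨(t + 2) * ((t + 1) ^ 3 - 1), by
    have h1 : 1 ≤ (t + 1) ^ 3 := Nat.one_le_pow _ _ (by omega)
    rw [show (t + 1) ^ 6 = ((t + 1) ^ 3) ^ 2 by ring, ← mul_assoc, show d * (t + 2) = (t + 1) ^ 3 + 1 by rw [hd]; ring,
      ← Nat.sq_sub_sq]⟩
  have h9 : ¬ 9 ∣ d := by
    rw [hd, ← ZMod.natCast_eq_zero_iff]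
    push_cast
    generalize (t : ZMod 9) = x
    revert x
    decide
  have prim : ∀ s, s.Prime → s ∣ d → s ≠ 3 →
      (∀ i, 0 < i → i < 6 → ¬ s ∣ (t + 1) ^ i - 1) ∧ 6 ∣ s - 1 := by
    intro s hs hsd hs3
    haveI := Fact.mk hs
    have h0 : (t : ZMod s) * t + t + 1 = 0 := by exact_mod_cast (ZMod.natCast_eq_zero_iff _ _).2 hsd
    set x : ZMod s := ((t + 1 : ℕ) : ZMod s) with hx
    have hx' : x = (t : ZMod s) + 1 := by rw [hx]; push_cast; rfl
    have h3 : x ^ 3 = -1 := by rw [hx']; linear_combination ((t : ZMod s) + 2) * h0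
    have hs2 : s ≠ 2 := fun e => by
      subst e
      have hev : Even (t * t + t) := by rw [← Nat.mul_succ]; exact Nat.even_mul_succ_self t
      obtain ⟨r, hr⟩ := hev
      omega
    have hcast : ∀ {q : ℕ}, q.Prime → (q : ZMod s) = 0 → s = q := fun hq h =>
      (Nat.prime_dvd_prime_iff_eq hs hq).1 ((ZMod.natCast_eq_zero_iff _ _).1 h)
    have h3ne : ¬ x ^ 3 = 1 := fun e => hs2 (hcast Nat.prime_two (by push_cast; linear_combination h3 - e))
    have h2ne : ¬ x ^ 2 = 1 := fun e => by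
      have e' : x = -1 := by
        have : x ^ 3 = x := by rw [pow_succ, e, one_mul]
        rw [← this, h3]
      rw [hx'] at e'
      exact hs3 (hcast Nat.prime_three (by push_cast; linear_combination h0 - ((t : ZMod s) - 1) * e'))
    have h6 : x ^ 6 = 1 := by rw [show 6 = 3 * 2 from rfl, pow_mul, h3, neg_one_sq]
    have hord : orderOf x = 6 := by
      rw [orderOf_eq_iff (by norm_num)]
      refine ⟨h6, fun i hi hi0 h => ?_⟩
      interval_cases i
      · rw [pow_one] at h; exact h3ne (by rw [h, one_pow])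
      · exact h2ne h
      · exact h3ne h
      · exact h2ne (by rw [show 6 = 4 + 2 from rfl, pow_add, h, one_mul] at h6; exact h6)
      · exact h3ne (by
          have : x = 1 := by rwa [show 6 = 5 + 1 from rfl, pow_add, h, one_mul, pow_one] at h6
          rw [this, one_pow])
    refine ⟨fun i hi hi6 hdv => ?_, ?_⟩
    · rw [← ZMod.natCast_eq_zero_iff, Nat.cast_sub (Nat.one_le_pow _ _ (by omega)), Nat.cast_pow, Nat.cast_one,
        sub_eq_zero] at hdv
      have := Nat.le_of_dvd hi (hord ▸ orderOf_dvd_of_pow_eq_one hdv)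
      omega
    · rw [← hord]
      refine orderOf_dvd_of_pow_eq_one (ZMod.pow_card_sub_one_eq_one fun e => ?_)
      rw [e, zero_pow (by norm_num)] at h6
      exact zero_ne_one h6
  have key : d ∣ 3 * bound 6 := by
    by_cases h3 : 3 ∣ d
    · obtain ⟨c, hc⟩ := h3
      rw [hc]
      refine Nat.mul_dvd_mul_left 3 (dvd_bound (by norm_num) hgood ((hc ▸ dvd_mul_left c 3).trans hdd)
        (by rintro rfl; omega) fun s hs hsc => ?_)
      exact prim s hs (show s ∣ d from by rw [hc]; exact hsc.mul_left 3) fun e => h9 (by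
        subst e
        rw [hc]
        exact Nat.mul_dvd_mul_left 3 hsc)
    · exact (dvd_bound (by norm_num) hgood hdd (by omega) fun s hs hsc =>
        prim s hs hsc fun e => h3 (e ▸ hsc)).mul_left 3
  have hcand : ∀ e ∈ ([1, 3] : List ℕ), ∀ x ∈ Finset.range 6, ∀ y ∈ Finset.range 3, ∀ z ∈ Finset.range 3,
      ∀ r ∈ ([(e * (7 ^ x * (13 ^ y * 19 ^ z))).sqrt] : List ℕ),
      r * r + r + 1 = e * (7 ^ x * (13 ^ y * 19 ^ z)) → 6 ≤ r → noSmallFactor (r + 1) = true →
        r + 1 = 17 ∨ r + 1 = 19 ∨ r + 1 = 23 ∨ r + 1 = 31 := by decide +kernel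
  rw [show bound 6 = 7 ^ 5 * (13 ^ 2 * 19 ^ 2) by decide +kernel] at key
  obtain ⟨e, w, he, hw, hew⟩ := Nat.dvd_mul.1 key
  obtain ⟨x, hx, y, hy, z, hz, rfl⟩ := three_prime_powers (show Nat.Prime 7 by norm_num)
    (show Nat.Prime 13 by norm_num) (show Nat.Prime 19 by norm_num) hw
  have he' : e ∈ ([1, 3] : List ℕ) := by
    rcases (Nat.dvd_prime Nat.prime_three).1 he with h | h <;> simp [h]
  have hsq : d.sqrt = t := (Nat.eq_sqrt.2 ⟨by omega, by rw [hd]; nlinarith⟩).symm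
  exact hcand e he' x hx y hy z hz t (by rw [hew, hsq]; simp) (hd.symm.trans hew.symm) (by omega)
    (noSmallFactor_prime hp)

/-- The seven pairs left over. -/
def exceptions : List (ℕ × ℕ) := [(7, 4), (13, 4), (47, 4), (17, 6), (19, 6), (23, 6), (31, 6)]

/-- The arithmetic. -/
theorem good_or_exception {p m : ℕ} (hp : p.Prime) (hp7 : 7 ≤ p) (hm : 3 ≤ m) :
    Good p m ∨ (p, m) ∈ exceptions := by
  by_cases h3 : m = 3
  · exact Or.inl (h3 ▸ three_case hp hp7)
  by_cases h4 : m = 4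
  · subst h4
    rcases four_case hp hp7 with h | rfl | rfl | rfl
    · exact Or.inl h
    all_goals exact Or.inr (by simp [exceptions])
  by_cases h6 : m = 6
  · subst h6
    rcases six_case hp hp7 with h | h | h | h | h
    · exact Or.inl h
    all_goals exact Or.inr (by rw [h]; simp [exceptions])
  exact Or.inl (general_case hp hp7 hm ⟨h3, h4, h6⟩)

end Cfsg.Lib.Blocks.ThreeClasses
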