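import Cfsg.Agent.Blocks.ThreeClasses.Orbits

/-!
# Eigenvalues in the prime field

If both orbits are unions of lines then every nonzero scalar is an eigenvalue of two classes or a double
eigenvalue of one, so `n` times the class number is at least `2(p - 2) + n`.
-/

set_option autoImplicit false
set_option linter.unusedSectionVars false
set_option linter.style.haveILetI false

namespace Cfsg.Lib.Blocks.ThreeClasses

open Module Finset
open Cfsg.Lib.Blocks.CoprimeTransitive

universe u v

variable {p : ℕ} [hp : Fact p.Prime] {V : Type v} [AddCommGroup V] [Module (ZMod p) V] [Finite V]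
  {H : Type u} [Group H] [Finite H] {ρ : H →* Module.End (ZMod p) V}

/-- Eigenspaces for distinct eigenvalues are independent. -/
theorem sum_finrank_eigenspace (T : Module.End (ZMod p) V) (s : Finset (ZMod p)) :
    ∑ c ∈ s, finrank (ZMod p) (T.eigenspace c) ≤ finrank (ZMod p) V := by
  classical
  suffices ∀ t : Finset (ZMod p), ∑ c ∈ t, finrank (ZMod p) (T.eigenspace c) =
      finrank (ZMod p) ↥(t.sup fun c => T.eigenspace c) by
    rw [this]; exact Submodule.finrank_le _
  intro t
  induction t using Finset.induction_on with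
  | empty => rw [Finset.sum_empty, Finset.sup_empty, finrank_bot]
  | insert a t ha ih =>
    rw [Finset.sum_insert ha, ih, Finset.sup_insert]
    have hd : Disjoint (T.eigenspace a) (t.sup fun c => T.eigenspace c) := by
      refine ((Module.End.eigenspaces_iSupIndep T) a).mono_right (Finset.sup_le fun c hc => ?_)
      exact le_iSup₂_of_le c (fun e => ha (e ▸ hc)) le_rfl
    rw [← Submodule.finrank_sup_add_finrank_inf_eq, hd.eq_bot, finrank_bot, add_zero]

theorem finrank_eigenspace_conj (g h : H) (c : ZMod p) :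
    finrank (ZMod p) ((ρ h).eigenspace c) = finrank (ZMod p) ((ρ (g * h * g⁻¹)).eigenspace c) := by
  let e : V ≃ₗ[ZMod p] V := LinearEquiv.ofLinearMap (ρ g) (ρ g⁻¹)
    (LinearMap.ext (conj_mul_apply' g)) (LinearMap.ext (conj_mul_apply g))
  have hmap : ((ρ h).eigenspace c).map e.toLinearMap = (ρ (g * h * g⁻¹)).eigenspace c := by
    ext x
    constructor
    · rintro ⟨u, hu, rfl⟩
      rw [SetLike.mem_coe, Module.End.mem_eigenspace_iff] at hu
      rw [Module.End.mem_eigenspace_iff]
      show ρ (g * h * g⁻¹) (ρ g u) = c • ρ g u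
      rw [map_mul, map_mul, Module.End.mul_apply, Module.End.mul_apply, conj_mul_apply, hu, map_smul]
    · intro hx
      rw [Module.End.mem_eigenspace_iff, map_mul, map_mul, Module.End.mul_apply, Module.End.mul_apply] at hx
      refine ⟨ρ g⁻¹ x, ?_, conj_mul_apply' g x⟩
      rw [SetLike.mem_coe, Module.End.mem_eigenspace_iff]
      have := congrArg (ρ g⁻¹) hx
      rwa [conj_mul_apply, map_smul] at this
  rw [← hmap]
  exact (e.submoduleMap _).finrank_eq

/-- Classes without eigenvalues in the prime field do not contribute. -/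
theorem eig_count_sub [Nontrivial V] {v w : V} (hP : IsPair ρ v w)
    (hscal : ∀ c : ZMod p, c ≠ 0 → ∀ u : V, c • u ∈ orb ρ u) (Z : Finset (ConjClasses H))
    (hZ : ∀ h : H, ConjClasses.mk h ∈ Z → ∀ c : ZMod p, (ρ h).eigenspace c = ⊥) :
    2 * (p - 2) + finrank (ZMod p) V ≤ finrank (ZMod p) V * (Nat.card (ConjClasses H) - Z.card) := by
  classical
  haveI := Fintype.ofFinite (ConjClasses H)
  set n := finrank (ZMod p) V
  let rep : ConjClasses H → H := fun C => (ConjClasses.exists_rep C).choose
  have hrep : ∀ C, ConjClasses.mk (rep C) = C := fun C => (ConjClasses.exists_rep C).choose_spec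
  let d : ConjClasses H → ZMod p → ℕ := fun C c => finrank (ZMod p) ((ρ (rep C)).eigenspace c)
  have hd : ∀ h c, d (ConjClasses.mk h) c = finrank (ZMod p) ((ρ h).eigenspace c) := by
    intro h c
    obtain ⟨g, hg⟩ := isConj_iff.1 (ConjClasses.mk_eq_mk_iff_isConj.1 (hrep (ConjClasses.mk h)))
    show finrank (ZMod p) ((ρ (rep (ConjClasses.mk h))).eigenspace c) = _
    rw [finrank_eigenspace_conj g (rep (ConjClasses.mk h)), hg]
  have hone : n ≤ ∑ C, d C 1 := by
    refine le_trans (le_of_eq ?_) (Finset.single_le_sum (fun C _ => Nat.zero_le _) (mem_univ (ConjClasses.mk 1)))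
    rw [hd, map_one, show Module.End.eigenspace (1 : Module.End (ZMod p) V) 1 = ⊤ from
      top_unique fun x _ => by simp [Module.End.mem_eigenspace_iff], finrank_top]
  have htwo : ∀ c : ZMod p, c ≠ 0 → 2 ≤ ∑ C, d C c := by
    intro c hc
    obtain ⟨h, hh⟩ := hscal c hc v
    obtain ⟨k, hk⟩ := hscal c hc w
    have hv : v ∈ (ρ h).eigenspace c := Module.End.mem_eigenspace_iff.2 hh
    have hw : w ∈ (ρ k).eigenspace c := Module.End.mem_eigenspace_iff.2 hk
    have hpos : ∀ {x : H} {u : V}, u ≠ 0 → u ∈ (ρ x).eigenspace c →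
        1 ≤ finrank (ZMod p) ((ρ x).eigenspace c) := fun hu hmem =>
      Submodule.one_le_finrank_iff.2 fun e => hu ((Submodule.eq_bot_iff _).1 e _ hmem)
    by_cases hconj : ConjClasses.mk k = ConjClasses.mk h
    · refine le_trans ?_ (Finset.single_le_sum (fun C _ => Nat.zero_le _) (mem_univ (ConjClasses.mk h)))
      rw [hd]
      by_contra hlt
      obtain ⟨g, hg⟩ := isConj_iff.1 (ConjClasses.mk_eq_mk_iff_isConj.1 hconj)
      have hgw : ρ g w ∈ (ρ h).eigenspace c := by
        rw [← hg, Module.End.mem_eigenspace_iff, map_mul, map_mul, Module.End.mul_apply, Module.End.mul_apply,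
          conj_mul_apply, show ρ k w = c • w from hk, map_smul]
      have h1 : finrank (ZMod p) ((ρ h).eigenspace c) = 1 := by have := hpos hP.left hv; omega
      obtain ⟨⟨e, he⟩, he0, hspan⟩ := finrank_eq_one_iff'.1 h1
      obtain ⟨a, ha⟩ := hspan ⟨v, hv⟩
      obtain ⟨b, hb⟩ := hspan ⟨_, hgw⟩
      have ha' : a • e = v := congrArg Subtype.val ha
      have hb' : b • e = ρ g w := congrArg Subtype.val hb
      have ha0 : a ≠ 0 := fun e' => hP.left (by rw [← ha', e', zero_smul])
      have hb0 : b ≠ 0 := fun e' => rho_ne_zero g hP.right (by rw [← hb', e', zero_smul])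
      refine hP.disjoint (u := ρ g w) ?_ (rho_mem_orb g (mem_orb_self w))
      have := hscal (b * a⁻¹) (mul_ne_zero hb0 (inv_ne_zero ha0)) v
      rwa [← ha', smul_smul, inv_mul_cancel_right₀ ha0, hb', ha'] at this
    · have h2 : ∑ C ∈ ({ConjClasses.mk k, ConjClasses.mk h} : Finset (ConjClasses H)), d C c ≤ ∑ C, d C c :=
        Finset.sum_le_sum_of_subset (Finset.subset_univ _)
      rw [Finset.sum_pair hconj, hd, hd] at h2
      have := hpos hP.left hv
      have := hpos hP.right hw
      omega
  set s : Finset (ZMod p) := (univ.erase 0).erase 1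
  have hs : s.card = p - 2 := by
    rw [card_erase_of_mem (mem_erase.2 ⟨one_ne_zero, mem_univ _⟩), card_erase_of_mem (mem_univ _), card_univ,
      ZMod.card]
    omega
  calc 2 * (p - 2) + n ≤ (∑ c ∈ s, ∑ C, d C c) + ∑ C, d C 1 := by
        refine add_le_add ?_ hone
        rw [← hs, mul_comm, ← smul_eq_mul, ← Finset.sum_const]
        exact Finset.sum_le_sum fun c hc => htwo c (mem_erase.1 (mem_erase.1 hc).2).1
    _ = ∑ C, ∑ c ∈ insert 1 s, d C c := by
        rw [Finset.sum_comm (t := univ), Finset.sum_comm (s := univ) (t := insert 1 s),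
          Finset.sum_insert (notMem_erase _ _), add_comm]
        rw [Finset.sum_comm]
    _ = ∑ C ∈ univ \ Z, ∑ c ∈ insert 1 s, d C c := by
        refine (sum_subset (Finset.sdiff_subset) fun C _ hC => sum_eq_zero fun c _ => ?_).symm
        have hCZ : C ∈ Z := by simpa using hC
        obtain ⟨h, rfl⟩ := ConjClasses.exists_rep C
        show d (ConjClasses.mk h) c = 0
        rw [hd, hZ h hCZ, finrank_bot]
    _ ≤ ∑ _C ∈ univ \ Z, n := Finset.sum_le_sum fun C _ => sum_finrank_eigenspace _ _
    _ = n * (Nat.card (ConjClasses H) - Z.card) := by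
        rw [Finset.sum_const, card_univ_diff, Nat.card_eq_fintype_card, smul_eq_mul, mul_comm]

theorem eig_count [Nontrivial V] {v w : V} (hP : IsPair ρ v w)
    (hscal : ∀ c : ZMod p, c ≠ 0 → ∀ u : V, c • u ∈ orb ρ u) :
    2 * (p - 2) + finrank (ZMod p) V ≤ finrank (ZMod p) V * Nat.card (ConjClasses H) := by
  have := eig_count_sub hP hscal ∅ (fun h hh => absurd hh (Finset.notMem_empty _))
  rwa [Finset.card_empty, Nat.sub_zero] at this

end Cfsg.Lib.Blocks.ThreeClasses
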