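import Cfsg.Agent.Blocks.ThreeClasses.Orbits

/-!
# Two orbits that are unions of lines

The two orbits on the vectors and the two on the functionals determine each other, so the dimension is
`2i` and, with `q = p ^ i`, both orbit lengths are divisible by `q + 1` or both by `q - 1`.
-/

set_option autoImplicit false
set_option linter.unusedSectionVars false
set_option linter.style.haveILetI false

namespace Cfsg.Lib.Blocks.ThreeClasses

open Module Finset
open Cfsg.Lib.Blocks.CoprimeTransitive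

universe u v

variable {p : ℕ} [hp : Fact p.Prime] {V : Type v} [AddCommGroup V] [Module (ZMod p) V] [Finite V]
  {H : Type u} [Group H] [Finite H] {ρ : H →* Module.End (ZMod p) V}

theorem finite_dual (p : ℕ) [Fact p.Prime] (V : Type v) [AddCommGroup V] [Module (ZMod p) V] [Finite V] :
    Finite (Module.Dual (ZMod p) V) :=
  Finite.of_injective (fun f : Module.Dual (ZMod p) V => (f : V → ZMod p)) DFunLike.coe_injective

/-- The contragredient. -/
def dual (ρ : H →* Module.End (ZMod p) V) : H →* Module.End (ZMod p) (Module.Dual (ZMod p) V) where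
  toFun h := (ρ h⁻¹).dualMap
  map_one' := by
    refine LinearMap.ext fun f => LinearMap.ext fun x => ?_
    rw [inv_one, map_one]; rfl
  map_mul' a b := by
    refine LinearMap.ext fun f => LinearMap.ext fun x => ?_
    show f (ρ (a * b)⁻¹ x) = f (ρ b⁻¹ (ρ a⁻¹ x))
    rw [mul_inv_rev, map_mul, Module.End.mul_apply]

theorem dual_apply (h : H) (f : Module.Dual (ZMod p) V) (x : V) : dual ρ h f x = f (ρ h⁻¹ x) := rfl

/-- Stabilisers add up to the order over each orbit. -/
theorem sum_stab_orb [Fintype V] (v : V) [DecidablePred (· ∈ orb ρ v)] :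
    ∑ x ∈ univ.filter (· ∈ orb ρ v), Nat.card (stab ρ x) = Nat.card H := by
  have hcard : (univ.filter (· ∈ orb ρ v)).card = Nat.card (orb ρ v) := by
    rw [Nat.card_eq_fintype_card, ← Fintype.card_subtype]
  refine Nat.eq_of_mul_eq_mul_right (card_orb_pos (ρ := ρ) v) ?_
  rw [Finset.sum_mul, Finset.sum_congr rfl fun x hx => ?_, Finset.sum_const, smul_eq_mul, hcard, mul_comm]
  rw [← orb_eq (mem_filter.1 hx).2, card_orb, Subgroup.card_mul_index]

theorem sum_fix_eq [Fintype H] [Fintype V] :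
    ∑ h : H, Nat.card {x : V // ρ h x = x} = ∑ x : V, Nat.card (stab ρ x) := by
  rw [← Nat.card_sigma, ← Nat.card_sigma]
  exact Nat.card_congr
    { toFun := fun a => ⟨a.2.1, a.1, a.2.2⟩
      invFun := fun a => ⟨a.2.1, a.1, a.2.2⟩
      left_inv := fun _ => rfl
      right_inv := fun _ => rfl }

theorem sum_stab_eq [Fintype V] {v w : V} (hP : IsPair ρ v w) : ∑ x : V, Nat.card (stab ρ x) = 3 * Nat.card H := by
  classical
  have h0 : stab ρ (0 : V) = ⊤ := top_unique fun h _ => map_zero _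
  have hsplit : (univ.erase (0 : V)) = univ.filter (· ∈ orb ρ v) ∪ univ.filter (· ∈ orb ρ w) := by
    ext x
    simp only [mem_erase, mem_union, mem_filter, mem_univ, and_true, true_and]
    exact ⟨hP.cover x, fun h => h.elim (ne_zero_of_mem hP.left) (ne_zero_of_mem hP.right)⟩
  rw [← add_sum_erase _ _ (mem_univ (0 : V)), h0, Subgroup.card_top, hsplit, sum_union, sum_stab_orb, sum_stab_orb]
  · ring
  · exact disjoint_filter.2 fun x _ h1 h2 => hP.disjoint h1 h2

theorem pair_of_sum [Fintype V] [Nontrivial V] (hsum : ∑ x : V, Nat.card (stab ρ x) = 3 * Nat.card H) :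
    ∃ v w : V, IsPair ρ v w := by
  classical
  have h0 : stab ρ (0 : V) = ⊤ := top_unique fun h _ => map_zero _
  rw [← add_sum_erase _ _ (mem_univ (0 : V)), h0, Subgroup.card_top] at hsum
  obtain ⟨v, hv⟩ := exists_ne (0 : V)
  have hsub : ∀ x : V, x ≠ 0 → univ.filter (· ∈ orb ρ x) ⊆ univ.erase (0 : V) := fun x hx y hy =>
    mem_erase.2 ⟨ne_zero_of_mem hx (mem_filter.1 hy).2, mem_univ _⟩
  rw [← sum_sdiff (hsub v hv), sum_stab_orb] at hsum
  have hpos := Nat.card_pos (α := H)
  obtain ⟨w, hw⟩ : (univ.erase (0 : V) \ univ.filter (· ∈ orb ρ v)).Nonempty := by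
    by_contra h
    rw [not_nonempty_iff_eq_empty.1 h, sum_empty] at hsum
    omega
  simp only [mem_sdiff, mem_erase, mem_filter, mem_univ, and_true, true_and] at hw
  have hsub' : univ.filter (· ∈ orb ρ w) ⊆ univ.erase (0 : V) \ univ.filter (· ∈ orb ρ v) := fun y hy => by
    refine mem_sdiff.2 ⟨hsub w hw.1 hy, fun h => hw.2 ?_⟩
    rw [← orb_eq (mem_filter.1 h).2, orb_eq (mem_filter.1 hy).2]
    exact mem_orb_self w
  rw [← sum_sdiff hsub', sum_stab_orb] at hsum
  refine ⟨v, w, hv, hw.1, hw.2, fun x hx => ?_⟩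
  by_contra hno
  push Not at hno
  have hxmem : x ∈ (univ.erase (0 : V) \ univ.filter (· ∈ orb ρ v)) \ univ.filter (· ∈ orb ρ w) := by
    simp only [mem_sdiff, mem_erase, mem_filter, mem_univ, and_true, true_and]
    exact ⟨⟨hx, hno.1⟩, hno.2⟩
  have h1 := single_le_sum (f := fun y => Nat.card (stab ρ y)) (fun y _ => Nat.zero_le _) hxmem
  have := Nat.card_pos (α := stab ρ x)
  omega

theorem finrank_dual : finrank (ZMod p) (Module.Dual (ZMod p) V) = finrank (ZMod p) V :=
  Subspace.dual_finrank_eq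

/-- There are two orbits on the functionals too. -/
theorem dual_pair [Nontrivial V] {v w : V} (hP : IsPair ρ v w) :
    ∃ f g : Module.Dual (ZMod p) V, IsPair (dual ρ) f g := by
  classical
  haveI := finite_dual p V
  haveI := Fintype.ofFinite H
  haveI := Fintype.ofFinite V
  haveI := Fintype.ofFinite (Module.Dual (ZMod p) V)
  haveI : Nontrivial (Module.Dual (ZMod p) V) := Module.nontrivial_of_finrank_pos (R := ZMod p) (by
    rw [finrank_dual]; exact Module.finrank_pos)
  refine pair_of_sum ?_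
  rw [← sum_fix_eq, ← sum_stab_eq hP, ← sum_fix_eq]
  refine Fintype.sum_equiv (Equiv.inv H) _ _ fun h => ?_
  set f := ρ h⁻¹ - 1
  have hd : f.dualMap = dual ρ h - 1 :=
    LinearMap.ext fun g => LinearMap.ext fun x => by
      show g (ρ h⁻¹ x - x) = g (ρ h⁻¹ x) - g x
      rw [map_sub]
  have e1 : Nat.card {g : Module.Dual (ZMod p) V // dual ρ h g = g} = Nat.card (LinearMap.ker f.dualMap) :=
    Nat.card_congr (Equiv.subtypeEquivRight fun g => by rw [LinearMap.mem_ker, hd, LinearMap.sub_apply,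
      Module.End.one_apply, sub_eq_zero])
  have e2 : Nat.card {x : V // ρ h⁻¹ x = x} = Nat.card (LinearMap.ker f) :=
    Nat.card_congr (Equiv.subtypeEquivRight fun x => by rw [LinearMap.mem_ker, LinearMap.sub_apply,
      Module.End.one_apply, sub_eq_zero])
  show _ = Nat.card {x : V // ρ h⁻¹ x = x}
  rw [e1, e2, Module.natCard_eq_pow_finrank (K := ZMod p) (V := LinearMap.ker f.dualMap),
    Module.natCard_eq_pow_finrank (K := ZMod p) (V := LinearMap.ker f)]
  congr 1
  have h1 := LinearMap.finrank_range_add_finrank_ker f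
  have h2 := LinearMap.finrank_range_add_finrank_ker f.dualMap
  rw [LinearMap.finrank_range_dualMap_eq_finrank_range, finrank_dual] at h2
  omega

/-- Functionals vanishing on a subspace. -/
theorem card_annihilator (W : Submodule (ZMod p) V) :
    p ^ finrank (ZMod p) W * Nat.card W.dualAnnihilator = p ^ finrank (ZMod p) V := by
  haveI := finite_dual p V
  rw [Module.natCard_eq_pow_finrank (K := ZMod p), Nat.card_zmod, ← pow_add,
    Subspace.finrank_add_finrank_dualAnnihilator_eq]

theorem card_vanish {x : V} (hx : x ≠ 0) :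
    p * Nat.card {f : Module.Dual (ZMod p) V // f x = 0} = p ^ finrank (ZMod p) V := by
  rw [← card_annihilator (Submodule.span (ZMod p) {x}), finrank_span_singleton hx, pow_one]
  congr 1
  refine Nat.card_congr (Equiv.subtypeEquivRight fun f => ?_)
  rw [Submodule.mem_dualAnnihilator]
  refine ⟨fun h y hy => ?_, fun h => h x (Submodule.mem_span_singleton_self x)⟩
  obtain ⟨c, rfl⟩ := Submodule.mem_span_singleton.1 hy
  rw [map_smul, h, smul_zero]

theorem card_vanish_two {x y : V} [Decidable (y ∈ Submodule.span (ZMod p) {x})] (hx : x ≠ 0) :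
    p ^ 2 * Nat.card {f : Module.Dual (ZMod p) V // f x = 0 ∧ f y = 0} =
      (if y ∈ Submodule.span (ZMod p) {x} then p else 1) * p ^ finrank (ZMod p) V := by
  split_ifs with hy
  · rw [← card_vanish hx, pow_two, mul_assoc]
    congr 2
    refine Nat.card_congr (Equiv.subtypeEquivRight fun f => ⟨And.left, fun h => ⟨h, ?_⟩⟩)
    obtain ⟨c, rfl⟩ := Submodule.mem_span_singleton.1 hy
    rw [map_smul, h, smul_zero]
  · rw [one_mul, ← card_annihilator (Submodule.span (ZMod p) (Set.range ![x, y]))]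
    have hli : LinearIndependent (ZMod p) ![x, y] :=
      (LinearIndependent.pair_iff' hx).2 fun a ha => hy (Submodule.mem_span_singleton.2 ⟨a, ha⟩)
    rw [finrank_span_eq_card hli, Fintype.card_fin]
    congr 1
    refine Nat.card_congr (Equiv.subtypeEquivRight fun f => ?_)
    rw [Submodule.mem_dualAnnihilator]
    refine ⟨fun h z hz => ?_, fun h => ⟨h x (Submodule.subset_span ⟨0, rfl⟩), h y (Submodule.subset_span ⟨1, rfl⟩)⟩⟩
    rw [Matrix.range_cons_cons_empty, Submodule.mem_span_pair] at hz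
    obtain ⟨c, d, rfl⟩ := hz
    rw [map_add, map_smul, map_smul, h.1, h.2, smul_zero, smul_zero, add_zero]

/-- Zeros minus ones of a functional on a set. -/
def excess (X : Finset V) (f : Module.Dual (ZMod p) V) : ℤ :=
  ((X.filter fun x => f x = 0).card : ℤ) - ((X.filter fun x => f x = 1).card : ℤ)

theorem excess_eq (X : Finset V) (hX : ∀ c : ZMod p, c ≠ 0 → ∀ x ∈ X, c • x ∈ X)
    (f : Module.Dual (ZMod p) V) :
    ((p : ℤ) - 1) * excess X f = p * (X.filter fun x => f x = 0).card - X.card := by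
  classical
  have hc : ∀ c ∈ (univ.erase (0 : ZMod p)), (X.filter fun x => f x = c).card = (X.filter fun x => f x = 1).card := by
    intro c hc
    have hc0 := (mem_erase.1 hc).1
    refine card_bij' (fun x _ => c⁻¹ • x) (fun x _ => c • x) ?_ ?_ ?_ ?_
    · intro x hx
      rw [mem_filter] at hx ⊢
      exact ⟨hX _ (inv_ne_zero hc0) _ hx.1, by rw [map_smul, hx.2, smul_eq_mul, inv_mul_cancel₀ hc0]⟩
    · intro x hx
      rw [mem_filter] at hx ⊢
      exact ⟨hX _ hc0 _ hx.1, by rw [map_smul, hx.2, smul_eq_mul, mul_one]⟩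
    · intro x _; rw [smul_smul, mul_inv_cancel₀ hc0, one_smul]
    · intro x _; rw [smul_smul, inv_mul_cancel₀ hc0, one_smul]
  have htot := card_eq_sum_card_fiberwise (s := X) (t := (univ : Finset (ZMod p))) (f := fun x => f x)
    fun x _ => mem_univ _
  rw [← add_sum_erase _ _ (mem_univ (0 : ZMod p)), sum_congr rfl hc, sum_const, smul_eq_mul,
    card_erase_of_mem (mem_univ _), card_univ, ZMod.card] at htot
  have h1 := hp.out.one_lt
  rw [excess, htot]
  push_cast [Nat.cast_sub h1.le]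
  ring

theorem sum_vanish [Fintype (Module.Dual (ZMod p) V)] (X : Finset V) (hX0 : ∀ x ∈ X, x ≠ 0) :
    p * ∑ f : Module.Dual (ZMod p) V, (X.filter fun x => f x = 0).card = X.card * p ^ finrank (ZMod p) V := by
  classical
  rw [sum_congr rfl fun f _ => card_filter _ _, sum_comm, mul_sum]
  rw [← smul_eq_mul X.card, ← sum_const]
  refine sum_congr rfl fun x hx => ?_
  rw [← card_filter, ← card_vanish (hX0 x hx)]
  congr 1
  rw [Nat.card_eq_fintype_card, Fintype.card_subtype]

theorem card_line (X : Finset V) (hX0 : ∀ x ∈ X, x ≠ 0) (hX : ∀ c : ZMod p, c ≠ 0 → ∀ x ∈ X, c • x ∈ X)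
    {x : V} (hx : x ∈ X) [DecidablePred (· ∈ Submodule.span (ZMod p) {x})] :
    (X.filter (· ∈ Submodule.span (ZMod p) {x})).card = p - 1 := by
  classical
  have hx0 := hX0 x hx
  have : X.filter (· ∈ Submodule.span (ZMod p) {x}) = (univ.erase (0 : ZMod p)).image fun c => c • x := by
    ext y
    simp only [mem_filter, mem_image, mem_erase, mem_univ, and_true, Submodule.mem_span_singleton]
    constructor
    · rintro ⟨hy, c, rfl⟩
      exact ⟨c, fun h => hX0 _ hy (by rw [h, zero_smul]), rfl⟩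
    · rintro ⟨c, hc, rfl⟩
      exact ⟨hX c hc x hx, c, rfl⟩
  rw [this, card_image_of_injective _ (smul_left_injective _ hx0), card_erase_of_mem (mem_univ _), card_univ, ZMod.card]

theorem sum_vanish_sq [Fintype (Module.Dual (ZMod p) V)] (X : Finset V) (hX0 : ∀ x ∈ X, x ≠ 0)
    (hX : ∀ c : ZMod p, c ≠ 0 → ∀ x ∈ X, c • x ∈ X) :
    p ^ 2 * ∑ f : Module.Dual (ZMod p) V, (X.filter fun x => f x = 0).card ^ 2 =
      X.card * ((p - 1) * (p - 1) + X.card) * p ^ finrank (ZMod p) V := by
  classical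
  have hcount : ∀ f : Module.Dual (ZMod p) V, (X.filter fun x => f x = 0).card ^ 2 =
      ∑ z ∈ X ×ˢ X, if f z.1 = 0 ∧ f z.2 = 0 then 1 else 0 := fun f => by
    rw [← card_filter, pow_two, ← card_product, ← filter_product]
  rw [sum_congr rfl fun f _ => hcount f, sum_comm, mul_sum, sum_product]
  rw [mul_assoc, ← smul_eq_mul X.card, ← sum_const]
  refine sum_congr rfl fun x hx => ?_
  have hterm : ∀ y ∈ X, p ^ 2 * ∑ f : Module.Dual (ZMod p) V, (if f x = 0 ∧ f y = 0 then 1 else 0) =
      ((if y ∈ Submodule.span (ZMod p) {x} then p - 1 else 0) + 1) * p ^ finrank (ZMod p) V := fun y _ => by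
    rw [← card_filter, ← Fintype.card_subtype, ← Nat.card_eq_fintype_card, card_vanish_two (hX0 x hx)]
    have := hp.out.one_lt
    split_ifs <;> congr 1 <;> omega
  rw [sum_congr rfl hterm, ← sum_mul]
  congr 1
  rw [sum_add_distrib, ← sum_filter, sum_const, sum_const, smul_eq_mul, smul_eq_mul, mul_one,
    card_line X hX0 hX hx]

theorem sum_excess_sq [Fintype (Module.Dual (ZMod p) V)] (X : Finset V) (hX0 : ∀ x ∈ X, x ≠ 0)
    (hX : ∀ c : ZMod p, c ≠ 0 → ∀ x ∈ X, c • x ∈ X) :
    ∑ f : Module.Dual (ZMod p) V, excess X f = 0 ∧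
      ∑ f : Module.Dual (ZMod p) V, excess X f ^ 2 = X.card * (p : ℤ) ^ finrank (ZMod p) V := by
  have h1 := congrArg (Nat.cast : ℕ → ℤ) (sum_vanish (p := p) X hX0)
  have h2 := congrArg (Nat.cast : ℕ → ℤ) (sum_vanish_sq (p := p) X hX0 hX)
  push_cast [Nat.cast_sub hp.out.one_lt.le] at h1 h2
  have hp1 : (p : ℤ) - 1 ≠ 0 := by
    have : (1 : ℤ) < p := by exact_mod_cast hp.out.one_lt
    omega
  have hD : (Fintype.card (Module.Dual (ZMod p) V) : ℤ) = (p : ℤ) ^ finrank (ZMod p) V := by
    rw [← Nat.card_eq_fintype_card, Module.natCard_eq_pow_finrank (K := ZMod p), finrank_dual, Nat.card_zmod]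
    push_cast
    rfl
  constructor
  · refine mul_left_cancel₀ hp1 ?_
    rw [mul_sum, sum_congr rfl fun f _ => excess_eq X hX f, sum_sub_distrib, ← mul_sum, h1, sum_const, card_univ,
      nsmul_eq_mul, hD]
    ring
  · refine mul_left_cancel₀ (pow_ne_zero 2 hp1) ?_
    rw [mul_sum, sum_congr rfl fun f _ => show ((p : ℤ) - 1) ^ 2 * excess X f ^ 2 =
        (p : ℤ) ^ 2 * ((X.filter fun x => f x = 0).card : ℤ) ^ 2 -
          2 * (X.card : ℤ) * ((p : ℤ) * (X.filter fun x => f x = 0).card) + (X.card : ℤ) ^ 2 by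
        rw [← mul_pow, excess_eq X hX]; ring]
    rw [sum_add_distrib, sum_sub_distrib, ← mul_sum, ← mul_sum, ← mul_sum, h2, h1, sum_const, card_univ,
      nsmul_eq_mul, hD]
    ring

/-- The arithmetic of the two orbit pairs. -/
theorem fourier_arith {p n a b a' b' : ℕ} {r s r' s' : ℤ} (hp : p.Prime) (ha : 0 < a) (hb : 0 < b)
    (ha' : ¬ p ∣ a') (hb' : ¬ p ∣ b') (hpa : ¬ p ∣ a) (hpb : ¬ p ∣ b)
    (hab : a + b = p ^ n - 1) (hab' : a' + b' = p ^ n - 1) (h1 : (a : ℤ) + a' * r + b' * s = 0)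
    (h2 : (a : ℤ) ^ 2 + a' * r ^ 2 + b' * s ^ 2 = a * (p : ℤ) ^ n)
    (hr' : (a : ℤ) * r' = a' * r) (hs' : (b : ℤ) * s' = -(a' * (1 + r))) :
    ∃ i : ℕ, n = 2 * i ∧ ((p ^ i + 1 ∣ a ∧ p ^ i + 1 ∣ b) ∨ (p ^ i - 1 ∣ a ∧ p ^ i - 1 ∣ b)) := by
  have hN : 1 ≤ p ^ n := Nat.one_le_pow _ _ hp.pos
  have hs1 : (a : ℤ) + b = (p : ℤ) ^ n - 1 := by
    have : ((a + b : ℕ) : ℤ) = ((p ^ n - 1 : ℕ) : ℤ) := by rw [hab]
    push_cast [Nat.cast_sub hN] at this
    exact this
  have hs2 : (a' : ℤ) + b' = (p : ℤ) ^ n - 1 := by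
    have : ((a' + b' : ℕ) : ℤ) = ((p ^ n - 1 : ℕ) : ℤ) := by rw [hab']
    push_cast [Nat.cast_sub hN] at this
    exact this
  have hsq : (a' : ℤ) * b' * (r - s) ^ 2 = (p : ℤ) ^ n * (a * b) := by
    linear_combination ((a' : ℤ) + b') * h2 - (a' * r + b' * s - a) * h1 + ((a : ℤ) * (p : ℤ) ^ n - a ^ 2) * hs2
      - (a : ℤ) * (p : ℤ) ^ n * hs1
  have hkey : (b' : ℤ) * (r - s) = ((p : ℤ) ^ n - 1) * r + a := by
    linear_combination -1 * h1 + r * hs2
  have hlin : (a : ℤ) * b * (r' - s') = a' * b' * (r - s) := by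
    linear_combination (b : ℤ) * hr' - (a : ℤ) * hs' - (a' : ℤ) * hkey + (a' : ℤ) * r * hs1
  have hab0 : (a : ℤ) * b ≠ 0 := by positivity
  have hprod : (r - s) * (r' - s') = (p : ℤ) ^ n := by
    refine mul_left_cancel₀ hab0 ?_
    linear_combination (r - s) * hlin + hsq
  obtain ⟨j, -, hj⟩ := (Nat.dvd_prime_pow hp).1 (show (r - s).natAbs ∣ p ^ n from ⟨(r' - s').natAbs, by
    rw [← Int.natAbs_mul, hprod, Int.natAbs_pow, Int.natAbs_natCast]⟩)
  have hnat : a' * b' * p ^ (2 * j) = p ^ n * (a * b) := by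
    have h := congrArg Int.natAbs hsq
    simp only [Int.natAbs_mul, Int.natAbs_pow, Int.natAbs_natCast] at h
    rwa [hj, ← pow_mul, mul_comm j 2] at h
  have hnd : ∀ x y : ℕ, ¬ p ∣ x → ¬ p ∣ y → ¬ p ∣ x * y := fun x y hx hy h =>
    (hp.dvd_mul.1 h).elim hx hy
  have hv : ∀ (x e : ℕ), ¬ p ∣ x → (x * p ^ e).factorization p = e := fun x e hx => by
    have hx0 : x ≠ 0 := fun h => hx (h ▸ dvd_zero _)
    rw [Nat.factorization_mul hx0 (pow_ne_zero _ hp.ne_zero), Finsupp.add_apply, hp.factorization_pow,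
      Finsupp.single_eq_same, Nat.factorization_eq_zero_of_not_dvd hx, zero_add]
  have hn : n = 2 * j := by
    have e1 := hv _ (2 * j) (hnd _ _ ha' hb')
    rw [hnat, mul_comm, hv _ n (hnd _ _ hpa hpb)] at e1
    exact e1
  refine ⟨j, hn, ?_⟩
  have heq : a' * b' = a * b := by
    rw [← hn, mul_comm (p ^ n)] at hnat
    exact Nat.eq_of_mul_eq_mul_right (pow_pos hp.pos n) hnat
  have hbb : (b' : ℤ) = b ∨ (b' : ℤ) = a := by
    have e : ((b' : ℤ) - b) * ((b' : ℤ) - a) = 0 := by
      have : ((a' * b' : ℕ) : ℤ) = ((a * b : ℕ) : ℤ) := by rw [heq]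
      push_cast at this
      linear_combination (b' : ℤ) * hs2 - (b' : ℤ) * hs1 - this
    rcases mul_eq_zero.1 e with h | h
    · exact Or.inl (sub_eq_zero.1 h)
    · exact Or.inr (sub_eq_zero.1 h)
  set q := p ^ j
  have hq : (p : ℤ) ^ n = (q : ℤ) * q := by
    rw [hn, two_mul, pow_add]; push_cast; rfl
  rw [hq] at hkey hs1
  have hq2 : 2 ≤ q ∨ q = 1 := by
    have := Nat.one_le_pow j p hp.pos
    omega
  have hq0 : 0 < q := pow_pos hp.pos j
  have hrs : r - s = (q : ℤ) ∨ r - s = -(q : ℤ) := by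
    rcases Int.natAbs_eq (r - s) with h | h <;> rw [hj] at h
    · exact Or.inl h
    · exact Or.inr h
  have hq1 : (q : ℤ) ≠ 1 := fun h => by
    rw [h] at hs1
    have : (0 : ℤ) < a := by exact_mod_cast ha
    have : (0 : ℤ) < b := by exact_mod_cast hb
    omega
  have hq1' : (q : ℤ) - 1 ≠ 0 := sub_ne_zero.2 hq1
  have hq1'' : (q : ℤ) + 1 ≠ 0 := by positivity
  -- one of the two divides one and so both
  have hboth : ∀ d : ℤ, d ∣ (a : ℤ) + b → (d ∣ a ∨ d ∣ b) → d ∣ a ∧ d ∣ b := by
    intro d hd h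
    rcases h with h | h
    · exact ⟨h, by simpa using dvd_sub hd h⟩
    · exact ⟨by simpa using dvd_sub hd h, h⟩
  have hplus : ((q : ℤ) + 1 ∣ a ∨ (q : ℤ) + 1 ∣ b) ∨ ((q : ℤ) - 1 ∣ a ∨ (q : ℤ) - 1 ∣ b) := by
    rcases hbb with hb'' | hb'' <;> rcases hrs with hd | hd <;> rw [hb'', hd] at hkey
    · refine Or.inr (Or.inr ⟨r + 1, mul_left_cancel₀ hq1'' ?_⟩)
      linear_combination hkey + hs1
    · refine Or.inl (Or.inr ⟨-(r + 1), mul_left_cancel₀ hq1' ?_⟩)
      linear_combination -1 * hkey - hs1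
    · refine Or.inl (Or.inl ⟨r, mul_left_cancel₀ hq1' ?_⟩)
      linear_combination hkey
    · refine Or.inr (Or.inl ⟨-r, mul_left_cancel₀ hq1'' ?_⟩)
      linear_combination -1 * hkey
  rcases hplus with h | h
  · refine Or.inl ?_
    have := hboth _ (hs1 ▸ ⟨(q : ℤ) - 1, by ring⟩) h
    rw [← Int.natCast_dvd_natCast, ← Int.natCast_dvd_natCast]
    push_cast
    exact this
  · refine Or.inr ?_
    have := hboth _ (hs1 ▸ ⟨(q : ℤ) + 1, by ring⟩) h
    rw [← Int.natCast_dvd_natCast, ← Int.natCast_dvd_natCast]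
    push_cast [Nat.cast_sub (show 1 ≤ q by omega)]
    exact this

theorem excess_add [DecidableEq V] {A B : Finset V} (h : Disjoint A B) (f : Module.Dual (ZMod p) V) :
    excess (A ∪ B) f = excess A f + excess B f := by
  classical
  simp only [excess, filter_union]
  rw [card_union_of_disjoint (disjoint_filter_filter h), card_union_of_disjoint (disjoint_filter_filter h)]
  push_cast
  ring

/-- **The dimension is even and the orbit lengths share a factor `q ± 1`.** -/
theorem fourier [Nontrivial V] (hcop : ¬ p ∣ Nat.card H) {v w : V} (hP : IsPair ρ v w)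
    (hscal : ∀ c : ZMod p, c ≠ 0 → ∀ u : V, c • u ∈ orb ρ u) :
    ∃ i : ℕ, finrank (ZMod p) V = 2 * i ∧
      ((p ^ i + 1 ∣ Nat.card (orb ρ v) ∧ p ^ i + 1 ∣ Nat.card (orb ρ w)) ∨
        (p ^ i - 1 ∣ Nat.card (orb ρ v) ∧ p ^ i - 1 ∣ Nat.card (orb ρ w))) := by
  classical
  haveI := finite_dual p V
  haveI := Fintype.ofFinite V
  haveI := Fintype.ofFinite (Module.Dual (ZMod p) V)
  obtain ⟨f, g, hD⟩ := dual_pair hP
  set n := finrank (ZMod p) V
  set A := univ.filter (· ∈ orb ρ v) with hA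
  set B := univ.filter (· ∈ orb ρ w) with hB
  set A' := univ.filter (· ∈ orb (dual ρ) f) with hA'
  set B' := univ.filter (· ∈ orb (dual ρ) g) with hB'
  have hmemA : ∀ x, x ∈ A ↔ x ∈ orb ρ v := fun x => by simp [hA]
  have hmemB : ∀ x, x ∈ B ↔ x ∈ orb ρ w := fun x => by simp [hB]
  have hcA : A.card = Nat.card (orb ρ v) := by rw [Nat.card_eq_fintype_card, ← Fintype.card_subtype]
  have hcB : B.card = Nat.card (orb ρ w) := by rw [Nat.card_eq_fintype_card, ← Fintype.card_subtype]
  have hcA' : A'.card = Nat.card (orb (dual ρ) f) := by rw [Nat.card_eq_fintype_card, ← Fintype.card_subtype]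
  have hcB' : B'.card = Nat.card (orb (dual ρ) g) := by rw [Nat.card_eq_fintype_card, ← Fintype.card_subtype]
  have hA0 : ∀ x ∈ A, x ≠ 0 := fun x hx => ne_zero_of_mem hP.left ((hmemA x).1 hx)
  have hAs : ∀ c : ZMod p, c ≠ 0 → ∀ x ∈ A, c • x ∈ A := fun c hc x hx =>
    (hmemA _).2 (orb_eq ((hmemA x).1 hx) ▸ hscal c hc x)
  have hBs : ∀ c : ZMod p, c ≠ 0 → ∀ x ∈ B, c • x ∈ B := fun c hc x hx =>
    (hmemB _).2 (orb_eq ((hmemB x).1 hx) ▸ hscal c hc x)
  -- constant on the orbits of functionals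
  have hconst : ∀ (h : H) (l : Module.Dual (ZMod p) V), excess A (dual ρ h l) = excess A l := by
    intro h l
    have hz : ∀ z : ZMod p, (A.filter fun x => dual ρ h l x = z).card = (A.filter fun x => l x = z).card := fun z => by
      refine card_bij' (fun x _ => ρ h⁻¹ x) (fun x _ => ρ h x) ?_ ?_ ?_ ?_
      · intro x hx
        rw [mem_filter, hmemA] at hx ⊢
        exact ⟨rho_mem_orb _ hx.1, hx.2⟩
      · intro x hx
        rw [mem_filter, hmemA] at hx ⊢
        exact ⟨rho_mem_orb _ hx.1, by rw [dual_apply, conj_mul_apply]; exact hx.2⟩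
      · intro x _; exact conj_mul_apply' h x
      · intro x _; exact conj_mul_apply h x
    simp only [excess, hz]
  set r := excess A f with hr
  set s := excess A g with hs
  have hrA : ∀ l ∈ A', excess A l = r := fun l hl => by
    obtain ⟨h, rfl⟩ := (mem_filter.1 hl).2
    exact hconst h f
  have hsB : ∀ l ∈ B', excess A l = s := fun l hl => by
    obtain ⟨h, rfl⟩ := (mem_filter.1 hl).2
    exact hconst h g
  have hsplit : univ.erase (0 : Module.Dual (ZMod p) V) = A' ∪ B' := by
    ext l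
    simp only [hA', hB', mem_erase, mem_union, mem_filter, mem_univ, and_true, true_and]
    exact ⟨hD.cover l, fun h => h.elim (ne_zero_of_mem hD.left) (ne_zero_of_mem hD.right)⟩
  have hdisj : Disjoint A' B' := disjoint_filter.2 fun x _ h1 h2 => hD.disjoint h1 h2
  have hzero : excess A (0 : Module.Dual (ZMod p) V) = A.card := by
    simp [excess]
  obtain ⟨e1, e2⟩ := sum_excess_sq (p := p) A hA0 hAs
  rw [← add_sum_erase _ _ (mem_univ 0), hsplit, sum_union hdisj, hzero, sum_congr rfl hrA, sum_congr rfl hsB,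
    sum_const, sum_const, nsmul_eq_mul, nsmul_eq_mul] at e1
  rw [← add_sum_erase _ _ (mem_univ 0), hsplit, sum_union hdisj, hzero,
    sum_congr rfl fun l hl => by rw [hrA l hl], sum_congr rfl (s₂ := B') fun l hl => by rw [hsB l hl],
    sum_const, sum_const, nsmul_eq_mul, nsmul_eq_mul] at e2
  have hab := hP.card_add
  have hab' := hD.card_add
  rw [finrank_dual] at hab'
  rw [← hcA, ← hcB] at hab ⊢
  rw [← hcA', ← hcB'] at hab'
  have hapos : 0 < A.card := hcA ▸ card_orb_pos v
  have hbpos : 0 < B.card := hcB ▸ card_orb_pos w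
  have hp1 : (p : ℤ) - 1 ≠ 0 := by
    have : (1 : ℤ) < p := by exact_mod_cast hp.out.one_lt
    omega
  have hN1 : 1 ≤ p ^ n := Nat.one_le_pow _ _ hp.out.pos
  -- so the orbits of functionals are unions of lines
  have hrs : r ≠ s := by
    intro h
    rw [← h] at e1 e2
    have hs' : ((A'.card : ℤ) + B'.card) = (p : ℤ) ^ n - 1 := by
      have : ((A'.card + B'.card : ℕ) : ℤ) = ((p ^ n - 1 : ℕ) : ℤ) := by rw [hab']
      push_cast [Nat.cast_sub hN1] at this
      exact this
    have hs'' : ((A.card : ℤ) + B.card) = (p : ℤ) ^ n - 1 := by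
      have : ((A.card + B.card : ℕ) : ℤ) = ((p ^ n - 1 : ℕ) : ℤ) := by rw [hab]
      push_cast [Nat.cast_sub hN1] at this
      exact this
    have e : (p : ℤ) ^ n * (A.card * B.card) = 0 := by
      linear_combination (A'.card * r + B'.card * r - (A.card : ℤ)) * e1 - ((A'.card : ℤ) + B'.card) * e2
        - ((A.card : ℤ) * (p : ℤ) ^ n - (A.card : ℤ) ^ 2) * hs' + (A.card : ℤ) * (p : ℤ) ^ n * hs''
    rw [mul_eq_zero, mul_eq_zero] at e
    rcases e with e | e | e
    · exact pow_ne_zero n (by exact_mod_cast hp.out.ne_zero) e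
    · exact hapos.ne' (by exact_mod_cast e)
    · exact hbpos.ne' (by exact_mod_cast e)
  have hA's : ∀ c : ZMod p, c ≠ 0 → ∀ l ∈ A', c • l ∈ A' := by
    intro c hc l hl
    have hl0 := ne_zero_of_mem hD.left (mem_filter.1 hl).2
    have heq : excess A (c • l) = excess A l := by
      refine mul_left_cancel₀ hp1 ?_
      rw [excess_eq A hAs, excess_eq A hAs]
      simp [LinearMap.smul_apply, hc]
    rcases hD.cover _ (smul_ne_zero hc hl0) with h | h
    · exact mem_filter.2 ⟨mem_univ _, h⟩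
    · exfalso
      refine hrs ?_
      rw [← hrA l hl, ← heq]
      exact hsB _ (mem_filter.2 ⟨mem_univ _, h⟩)
  -- the transposed counts
  let ev : V → Module.Dual (ZMod p) (Module.Dual (ZMod p) V) := Module.Dual.eval (ZMod p) V
  have hev : ∀ x l, ev x l = l x := fun x l => rfl
  have hN' : ∀ (h : H) (x : V), (A'.filter fun l => ev (ρ h x) l = 0).card = (A'.filter fun l => ev x l = 0).card := by
    intro h x
    refine card_bij' (fun l _ => dual ρ h⁻¹ l) (fun l _ => dual ρ h l) ?_ ?_ ?_ ?_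
    · intro l hl
      simp only [mem_filter, hA', mem_univ, true_and, hev] at hl ⊢
      exact ⟨rho_mem_orb _ hl.1, by rw [dual_apply, inv_inv]; exact hl.2⟩
    · intro l hl
      simp only [mem_filter, hA', mem_univ, true_and, hev] at hl ⊢
      exact ⟨rho_mem_orb _ hl.1, by rw [dual_apply, conj_mul_apply]; exact hl.2⟩
    · intro l _; exact conj_mul_apply' (ρ := dual ρ) h l
    · intro l _; exact conj_mul_apply (ρ := dual ρ) h l
  have hdouble : ∀ (X : Finset V) (u : V), (∀ x ∈ X, x ∈ orb ρ u) →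
      (∀ c : ZMod p, c ≠ 0 → ∀ x ∈ X, c • x ∈ X) → (∀ l ∈ A', excess X l = excess X f) →
      (X.card : ℤ) * excess A' (ev u) = A'.card * excess X f := by
    intro X u hX hXs hXc
    have hcomm : ∑ x ∈ X, (A'.filter fun l => ev x l = 0).card = ∑ l ∈ A', (X.filter fun x => l x = 0).card := by
      simp only [card_filter, hev]
      exact sum_comm
    rw [sum_congr rfl (g := fun _ => (A'.filter fun l => ev u l = 0).card) fun x hx => by
      obtain ⟨h, rfl⟩ := hX x hx
      exact hN' h u, sum_const, smul_eq_mul] at hcomm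
    have hc := congrArg (Nat.cast : ℕ → ℤ) hcomm
    push_cast at hc
    refine mul_left_cancel₀ hp1 ?_
    have l1 := excess_eq A' hA's (ev u)
    have l2 : ∑ l ∈ A', ((p : ℤ) * (X.filter fun x => l x = 0).card - X.card) =
        ∑ l ∈ A', ((p : ℤ) - 1) * excess X f :=
      sum_congr rfl fun l hl => by rw [← excess_eq X hXs, hXc l hl]
    rw [sum_sub_distrib, ← mul_sum, sum_const, sum_const, nsmul_eq_mul, nsmul_eq_mul, ← hc] at l2
    linear_combination (X.card : ℤ) * l1 + l2
  have hdual0 : ∀ l : Module.Dual (ZMod p) V, l ≠ 0 → excess B l = -1 - excess A l := by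
    intro l hl
    have hAB : Disjoint A B := disjoint_filter.2 fun x _ h1 h2 => hP.disjoint h1 h2
    have hu : A ∪ B = univ.erase (0 : V) := by
      ext x
      simp only [mem_union, hmemA, hmemB, mem_erase, mem_univ, and_true]
      exact ⟨fun h => h.elim (ne_zero_of_mem hP.left) (ne_zero_of_mem hP.right), hP.cover x⟩
    have hall : excess (univ.erase (0 : V)) l = -1 := by
      refine mul_left_cancel₀ hp1 ?_
      rw [excess_eq _ (fun c hc x hx => mem_erase.2 ⟨smul_ne_zero hc (mem_erase.1 hx).1, mem_univ _⟩),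
        card_erase_of_mem (mem_univ _), card_univ, filter_erase,
        card_erase_of_mem (s := univ.filter fun x => l x = 0) (mem_filter.2 ⟨mem_univ _, map_zero l⟩), ← Fintype.card_subtype,
        ← Nat.card_eq_fintype_card, ← Nat.card_eq_fintype_card]
      have hker : p * Nat.card {x : V // l x = 0} = p ^ n := by
        have h1 := LinearMap.finrank_range_add_finrank_ker l
        have h2 : finrank (ZMod p) (LinearMap.range l) = 1 := by
          rw [LinearMap.range_eq_top.2 (LinearMap.surjective hl), finrank_top, Module.finrank_self]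
        rw [Nat.card_congr (Equiv.subtypeEquivRight fun x => (LinearMap.mem_ker (f := l)).symm),
          Module.natCard_eq_pow_finrank (K := ZMod p), Nat.card_zmod, ← pow_succ']
        congr 1
        show finrank (ZMod p) (LinearMap.ker l) + 1 = n
        omega
      have hV : Nat.card V = p ^ n := card_vectors
      have hpos : 1 ≤ Nat.card {x : V // l x = 0} := by
        haveI : Nonempty {x : V // l x = 0} := ⟨⟨0, map_zero l⟩⟩
        exact Nat.card_pos
      rw [hV]
      have hk := congrArg (Nat.cast : ℕ → ℤ) hker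
      push_cast [Nat.cast_sub hN1, Nat.cast_sub hpos] at hk ⊢
      linear_combination hk
    rw [← hu, excess_add hAB] at hall
    omega
  have hr' := hdouble A v (fun x hx => (hmemA x).1 hx) hAs hrA
  have hs' := hdouble B w (fun x hx => (hmemB x).1 hx) hBs (fun l hl => by
    rw [hdual0 l (ne_zero_of_mem hD.left (mem_filter.1 hl).2), hdual0 f hD.left, hrA l hl])
  rw [hdual0 f hD.left] at hs'
  refine fourier_arith (r' := excess A' (ev v)) (s' := excess A' (ev w)) hp.out hapos hbpos
    (fun h => hcop (h.trans (hcA' ▸ card_orb_dvd f))) (fun h => hcop (h.trans (hcB' ▸ card_orb_dvd g)))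
    (fun h => hcop (h.trans (hcA ▸ card_orb_dvd v))) (fun h => hcop (h.trans (hcB ▸ card_orb_dvd w)))
    hab hab' (r := r) (s := s) ?_ ?_ hr' ?_
  · linear_combination e1
  · linear_combination e2
  · linear_combination hs'

end Cfsg.Lib.Blocks.ThreeClasses
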