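import Cfsg.Agent.Blocks.ThreeClasses.Structure
import Cfsg.Agent.Jordan.Blichfeldt
import Cfsg.Agent.S0899

/-!
# A large prime or a large power of a prime forces a normal subgroup
-/

set_option autoImplicit false
set_option linter.unusedSectionVars false
set_option linter.style.haveILetI false

namespace Cfsg.Lib.Blocks.ThreeClasses

open Polynomial Module Subgroup
open Cfsg Cfsg.Lib.Blocks Cfsg.Lib.Chars
open Cfsg.Lib.Blocks.CoprimeTransitive

universe u v

/-- A unipotent element is killed by a power at least the dimension. -/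
theorem pow_ppow_eq_one {k : Type*} [Field k] {s : ℕ} [Fact s.Prime] [CharP k s] {U : Type*} [AddCommGroup U]
    [Module k U] [FiniteDimensional k U] {i : ℕ} (hU : finrank k U ≤ s ^ i) (T : Module.End k U) {j : ℕ}
    (hT : T ^ s ^ j = 1) : T ^ s ^ i = 1 := by
  rcases subsingleton_or_nontrivial U with hU' | hU'
  · exact LinearMap.ext fun u => Subsingleton.elim _ _
  haveI : CharP (Module.End k U) s := charP_of_injective_algebraMap (RingHom.injective (algebraMap k _)) s
  have hnil : IsNilpotent (T - 1) := ⟨s ^ j, by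
    rw [sub_pow_char_pow_of_commute s j (Commute.one_right T), one_pow, hT, sub_self]⟩
  have hzero : (T - 1) ^ finrank k U = 0 := by
    have h := LinearMap.aeval_self_charpoly (T - 1)
    rwa [hnil.charpoly_eq_X_pow_finrank, map_pow, aeval_X] at h
  have h := sub_pow_char_pow_of_commute s i (Commute.one_right T)
  rw [one_pow, pow_eq_zero_of_le hU hzero] at h
  exact sub_eq_zero.1 h.symm

/-- Below twice `s` a factorial has only one factor `s`. -/
theorem not_sq_dvd_factorial {s : ℕ} (hs : s.Prime) : ∀ N : ℕ, N < 2 * s → ¬ s ^ 2 ∣ N.factorial := by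
  intro N
  induction N with
  | zero =>
    intro _ h
    exact hs.not_dvd_one ((dvd_pow_self s two_ne_zero).trans h)
  | succ N ih =>
    intro hN h
    rw [Nat.factorial_succ] at h
    by_cases hd : N + 1 = s
    · rw [hd, pow_two, Nat.mul_dvd_mul_iff_left hs.pos, hs.dvd_factorial] at h
      omega
    · refine ih (by omega) ((Nat.Coprime.pow_left 2 (hs.coprime_iff_not_dvd.2 ?_)).dvd_of_dvd_mul_left h)
      rintro ⟨c, hc⟩
      rcases c with _ | _ | c
      · omega
      · omega
      · have : s * 2 ≤ s * (c + 1 + 1) := Nat.mul_le_mul_left s (by omega)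
        omega

variable {p : ℕ} [hp : Fact p.Prime]

theorem finite_end (p : ℕ) [Fact p.Prime] (W : Type v) [AddCommGroup W] [Module (ZMod p) W] [Finite W] :
    Finite (Module.End (ZMod p) W) :=
  Finite.of_injective (fun f : Module.End (ZMod p) W => (f : W → W)) DFunLike.coe_injective

/-- A commutative linear `s`-group of exponent `e` has order at most `e ^ (dim / m)`. -/
theorem card_abelian_le {e m s : ℕ} [hs : Fact s.Prime] (he : 0 < e) (hsp : s ≠ p) (hord : orderOf (p : ZMod s) = m) :
    ∀ (d : ℕ) (W : Type v) [AddCommGroup W] [Module (ZMod p) W] [Finite W]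
      (A : Subgroup (Module.End (ZMod p) W)ˣ), finrank (ZMod p) W = d → (∀ a ∈ A, ∀ b ∈ A, a * b = b * a) →
      IsPGroup s A → (∀ a ∈ A, a ^ e = 1) → Nat.card A ≤ e ^ (d / m) := by
  intro d
  induction d using Nat.strong_induction_on with
  | _ d ih =>
  intro W _ _ _ A hd hcomm hA hexp
  classical
  haveI := finite_end p W
  by_cases hbot : A = ⊥
  · rw [hbot, Subgroup.card_bot]; exact Nat.one_le_pow _ _ he
  haveI : Nontrivial A := (Subgroup.nontrivial_iff_ne_bot A).2 hbot
  have hm0 : 0 < m := by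
    rw [← hord]
    exact orderOf_pos_iff.2 ((IsUnit.isOfFinOrder (G := ZMod s) ((ZMod.isUnit_iff_coprime _ _).2
      ((Nat.coprime_primes hp.out hs.out).2 (Ne.symm hsp)))))
  haveI : Nontrivial W := by
    by_contra h
    rw [not_nontrivial_iff_subsingleton] at h
    obtain ⟨a, ha⟩ := exists_ne (1 : A)
    exact ha (Subtype.ext (Units.ext (LinearMap.ext fun x => Subsingleton.elim _ _)))
  let σ : A →* Module.End (ZMod p) W := (Units.coeHom _).comp A.subtype
  have hσ : Function.Injective σ := Units.val_injective.comp Subtype.val_injective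
  have hcA : ∀ a ∈ (⊤ : Subgroup A), ∀ b ∈ (⊤ : Subgroup A), a * b = b * a := fun a _ b _ =>
    Subtype.ext (hcomm a a.2 b b.2)
  obtain ⟨k, hk0, hk⟩ := hA.nontrivial_iff_card.1 inferInstance
  have hcop : ¬ p ∣ Nat.card A := by
    rw [hk]
    exact fun h => hsp ((Nat.prime_dvd_prime_iff_eq hp.out hs.out).1 (hp.out.dvd_of_dvd_pow h)).symm
  by_cases hid : ∃ f ∈ algOf σ (⊤ : Subgroup A), f * f = f ∧ f ≠ 0 ∧ f ≠ 1
  · obtain ⟨f, hf, hff, hf0, hf1⟩ := hid
    have hfc : ∀ a : A, σ a * f = f * σ a := fun a =>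
      algOf_comm hcA _ (Algebra.subset_adjoin ⟨a, mem_top a, rfl⟩) f hf
    set W1 := LinearMap.range f
    set W2 := LinearMap.ker f
    have h1 : ∀ a : A, ∀ x ∈ W1, σ a x ∈ W1 := by
      rintro a _ ⟨y, rfl⟩
      exact ⟨σ a y, (LinearMap.congr_fun (hfc a) y).symm⟩
    have h2 : ∀ a : A, ∀ x ∈ W2, σ a x ∈ W2 := fun a x hx => by
      rw [LinearMap.mem_ker] at hx ⊢
      rw [← Module.End.mul_apply, ← hfc a, Module.End.mul_apply, hx, map_zero]
    let res : ∀ (U : Submodule (ZMod p) W), (∀ a : A, ∀ x ∈ U, σ a x ∈ U) → (A →* (Module.End (ZMod p) U)ˣ) :=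
      fun U hU => MonoidHom.toHomUnits
        { toFun := fun a => (σ a).restrict (hU a)
          map_one' := LinearMap.ext fun x => Subtype.ext (by
            show σ 1 (x : W) = x
            rw [map_one]; rfl)
          map_mul' := fun a b => LinearMap.ext fun x => Subtype.ext (by
            show σ (a * b) (x : W) = σ a (σ b x)
            rw [map_mul]; rfl) }
    have hres : ∀ (U : Submodule (ZMod p) W) hU, finrank (ZMod p) ↥U < d → Nat.card (res U hU).range ≤ e ^ (finrank (ZMod p) ↥U / m) := by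
      intro U hU hlt
      refine ih _ hlt U _ rfl ?_ (hA.of_surjective _ (res U hU).rangeRestrict_surjective) ?_
      · rintro _ ⟨a, rfl⟩ _ ⟨b, rfl⟩
        rw [← map_mul, ← map_mul, hcA a (mem_top a) b (mem_top b)]
      · rintro _ ⟨a, rfl⟩
        rw [← map_pow, show a ^ e = 1 from Subtype.ext (hexp a a.2), map_one]
    have hsum := LinearMap.finrank_range_add_finrank_ker f
    have hW1 : 0 < finrank (ZMod p) W1 := Nat.pos_of_ne_zero fun h =>
      hf0 (LinearMap.range_eq_bot.1 (Submodule.finrank_eq_zero.1 h))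
    have hW2 : 0 < finrank (ZMod p) W2 := Nat.pos_of_ne_zero fun h => by
      refine hf1 (LinearMap.ext fun x => LinearMap.ker_eq_bot.1 (Submodule.finrank_eq_zero.1 h) ?_)
      rw [← Module.End.mul_apply, hff, Module.End.one_apply]
    have hinj : Function.Injective fun a : A => (((res W1 h1).rangeRestrict a, (res W2 h2).rangeRestrict a)) := by
      intro a b hab
      simp only [Prod.mk.injEq] at hab
      refine hσ (LinearMap.ext fun x => ?_)
      have e1 := congrArg (fun z => ((((Subtype.val z : (Module.End (ZMod p) W1)ˣ) : Module.End (ZMod p) W1)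
        ⟨f x, x, rfl⟩ : W1) : W)) hab.1
      have e2 := congrArg (fun z => ((((Subtype.val z : (Module.End (ZMod p) W2)ˣ) : Module.End (ZMod p) W2)
        ⟨x - f x, by rw [LinearMap.mem_ker, map_sub, ← Module.End.mul_apply, hff, sub_self]⟩ : W2) : W)) hab.2
      have e1' : σ a (f x) = σ b (f x) := e1
      have e2' : σ a (x - f x) = σ b (x - f x) := e2
      rw [map_sub, map_sub, e1'] at e2'
      exact sub_left_inj.1 e2'
    have hsum' : finrank (ZMod p) W1 + finrank (ZMod p) W2 = d := hsum.trans hd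
    haveI := finite_end p W1
    haveI := finite_end p W2
    have hle := Nat.card_le_card_of_injective _ hinj
    rw [Nat.card_prod] at hle
    refine hle.trans ((Nat.mul_le_mul (hres W1 h1 (by omega)) (hres W2 h2 (by omega))).trans ?_)
    rw [← pow_add]
    refine Nat.pow_le_pow_right he (le_trans Nat.div_add_div_le_add_div ?_)
    rw [hsum']
  push Not at hid
  obtain ⟨hcyc, hmin⟩ := of_injective hσ hcA fun r hr hr0 => algOf_injective hcop hcA
    (fun f hf hff => or_iff_not_imp_left.2 (hid f hf hff)) hr hr0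
  haveI : IsCyclic A := Subgroup.topEquiv.isCyclic.1 hcyc
  obtain ⟨g, hg⟩ := IsCyclic.exists_generator (α := A)
  have hcard : Nat.card A ≤ e := by
    rw [← orderOf_eq_card_of_forall_mem_zpowers hg]
    exact Nat.le_of_dvd he (orderOf_dvd_of_pow_eq_one (Subtype.ext (hexp g g.2)))
  obtain ⟨x, hx⟩ := exists_prime_orderOf_dvd_card' (G := A) s (hk ▸ dvd_pow_self s hk0.ne')
  have hdeg := natDegree_eq_orderOf hσ hsp hx (hmin x (mem_top x))
  have hle : (minpoly (ZMod p) (σ x)).natDegree ≤ d := by
    rw [← hd, ← LinearMap.charpoly_natDegree (σ x)]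
    exact natDegree_le_of_dvd (LinearMap.minpoly_dvd_charpoly _) (LinearMap.charpoly_monic _).ne_zero
  rw [hdeg, hord] at hle
  calc Nat.card A ≤ e ^ 1 := by rwa [pow_one]
    _ ≤ e ^ (d / m) := Nat.pow_le_pow_right he ((Nat.one_le_div_iff hm0).2 hle)

variable {V : Type v} [AddCommGroup V] [Module (ZMod p) V] [Finite V]
  {H : Type u} [Group H] [Finite H] {ρ : H →* Module.End (ZMod p) V}

/-- A prime above `2n + 1` gives a normal Sylow subgroup. -/
theorem large_prime (hinj : Function.Injective ρ) (hcop : ¬ p ∣ Nat.card H) {s : ℕ} [hs : Fact s.Prime]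
    (hsH : s ∣ Nat.card H) (hnop : ∀ Q : Subgroup H, Q.Normal → IsPGroup s Q → Q = ⊥) :
    s ≤ 2 * finrank (ZMod p) V + 1 := by
  classical
  haveI := Fintype.ofFinite H
  by_contra hlt
  push Not at hlt
  obtain ⟨M, hM⟩ := exists_isPModular hp.out
  set b := Module.finBasis (ZMod p) V
  obtain ⟨N, hNn, π, hπ⟩ := exists_lift (M := M) ((LinearMap.toMatrixAlgEquiv b).toMonoidHom.comp ρ) hM
    (by rwa [← Nat.card_eq_fintype_card]) ((LinearMap.toMatrixAlgEquiv b).injective.comp hinj)
  obtain ⟨P⟩ : Nonempty (Sylow s H) := inferInstance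
  have hnorm := Cfsg.Agent.S0899.result N π hπ s (Or.inr ⟨by omega, fun K hK Q => ?_⟩) P
  · have hbot := hnop _ hnorm P.2
    have h1 := P.pow_dvd_card_of_pow_dvd_card (n := 1) (by simpa using hsH)
    rw [hbot, Subgroup.card_bot, pow_one] at h1
    exact hs.out.not_dvd_one h1
  by_cases hsK : s ∣ Nat.card K
  swap
  · have : (Q : Subgroup K) = ⊥ := by
      refine Subgroup.eq_bot_of_card_eq _ ?_
      obtain ⟨j, hj⟩ := IsPGroup.iff_card.1 Q.2
      rcases j with _ | j
      · rw [hj, pow_zero]
      · exact absurd ((dvd_pow_self s j.succ_ne_zero).trans (hj ▸ Subgroup.card_subgroup_dvd_card _)) hsK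
    rw [this]; infer_instance
  by_cases hX : ∃ X : Subgroup K, X.Normal ∧ Nat.card X = s
  · obtain ⟨X, hXn, hXc⟩ := hX
    haveI := hXn
    have hXle : X ≤ Q := by
      have hXp : IsPGroup s X := IsPGroup.of_card (n := 1) (by rw [hXc, pow_one])
      have h := Q.2.to_sup_of_normal_right hXp
      rw [← Q.3 h le_sup_left]
      exact le_sup_right
    rw [← eq_of_le_of_card_ge hXle (by rw [hXc, sylow_card_prime hsK hK Q])]
    exact hXn
  · push Not at hX
    exfalso
    let πK : Representation ℂ K (Fin N → ℂ) := MonoidHom.comp π K.subtype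
    have hπK : Function.Injective πK := hπ.comp K.subtype_injective
    have hb := deg_bound_faithful (p := s) (G := K) hsK hK hX (χ := πK.character) ⟨N, πK, rfl⟩
      (fun g hg => Cfsg.Lib.OddChar.Blichfeldt.faithful_of_character hπK hg)
    rw [deg_character, finrank_fintype_fun_eq_card, Fintype.card_fin] at hb
    omega

/-- The Sylow subgroup is small without a normal `s`-subgroup. -/
theorem sylow_bound (hinj : Function.Injective ρ) (hcop : ¬ p ∣ Nat.card H) {s : ℕ} [hs : Fact s.Prime] {m : ℕ}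
    (hm : 0 < m) (hn : finrank (ZMod p) V = 2 * m) (hsp : s ≠ p) (hord : orderOf (p : ZMod s) = m)
    (hnop : ∀ Q : Subgroup H, Q.Normal → IsPGroup s Q → Q = ⊥) :
    (s = m + 1 → ¬ s ^ 6 ∣ Nat.card H) ∧ (2 * m + 1 ≤ s → ¬ s ^ 3 ∣ Nat.card H) := by
  classical
  haveI := Fintype.ofFinite H
  haveI := finite_end p V
  obtain ⟨M, hM⟩ := exists_isPModular hp.out
  set b := Module.finBasis (ZMod p) V
  obtain ⟨N, hNn, π, hπ⟩ := exists_lift (M := M) ((LinearMap.toMatrixAlgEquiv b).toMonoidHom.comp ρ) hM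
    (by rwa [← Nat.card_eq_fintype_card]) ((LinearMap.toMatrixAlgEquiv b).injective.comp hinj)
  rw [hn] at hNn
  obtain ⟨M', hM'⟩ := exists_isPModular hs.out
  haveI := charP_res hM'
  obtain ⟨U, σ, hU, hσ⟩ := exists_faithful_reduction hM' π hπ hnop
  obtain ⟨P⟩ : Nonempty (Sylow s H) := inferInstance
  set S := (P : Subgroup H)
  let πS : Representation ℂ S (Fin N → ℂ) := MonoidHom.comp π S.subtype
  have hπS : Function.Injective πS := hπ.comp S.subtype_injective
  obtain ⟨A, hAc, hAi⟩ := Cfsg.Lib.Jordan.exists_abelian_index_dvd_factorial P.2 (χ := πS.character) ⟨N, πS, rfl⟩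
    (fun g hg => Cfsg.Lib.OddChar.Blichfeldt.faithful_of_character hπS hg)
  rw [deg_character, finrank_fintype_fun_eq_card, Fintype.card_fin] at hAi
  obtain ⟨k, hk⟩ : ∃ k, A.index = s ^ k := P.2.index A
  rw [hk] at hAi
  have hexp : ∀ i, 2 * m ≤ s ^ i → ∀ a : S, a ^ s ^ i = 1 := by
    intro i hi a
    obtain ⟨j, hj⟩ := P.2 a
    have hpow : σ (a : H) ^ s ^ j = 1 := by
      rw [← map_pow, ← SubmonoidClass.coe_pow, hj, OneMemClass.coe_one, map_one]
    have h1 := pow_ppow_eq_one (i := i) (s := s) (hU.le.trans (by omega)) _ hpow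
    rw [← map_pow, ← map_one σ] at h1
    exact Subtype.ext (hσ h1)
  let φ : S →* (Module.End (ZMod p) V)ˣ := ρ.toHomUnits.comp S.subtype
  have hφ : Function.Injective φ := fun x y h => Subtype.ext (hinj (congrArg Units.val h))
  have hbound : ∀ i, 2 * m ≤ s ^ i → Nat.card S ≤ s ^ k * (s ^ i) ^ 2 := by
    intro i hi
    have h := card_abelian_le (p := p) (e := s ^ i) (pow_pos hs.out.pos i) hsp hord _ V (A.map φ) rfl
      (by
        rintro _ ⟨a, ha, rfl⟩ _ ⟨b, hb, rfl⟩
        rw [← map_mul, ← map_mul, hAc a ha b hb])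
      ((P.2.to_subgroup A).map φ) (by
        rintro _ ⟨a, -, rfl⟩
        rw [← map_pow, hexp i hi a, map_one])
    rw [← Nat.card_congr (A.equivMapOfInjective φ hφ).toEquiv, hn, Nat.mul_div_cancel _ hm] at h
    rw [← A.card_mul_index, hk, mul_comm]
    exact Nat.mul_le_mul_left _ h
  have hge : ∀ e, s ^ e ∣ Nat.card H → s ^ e ≤ Nat.card S := fun e he =>
    Nat.le_of_dvd Nat.card_pos (P.pow_dvd_card_of_pow_dvd_card he)
  refine ⟨fun hsm h6 => ?_, fun hsm h3 => ?_⟩
  · have hk1 : k ≤ 1 := by
      by_contra hk2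
      exact not_sq_dvd_factorial hs.out N (by omega) ((pow_dvd_pow s (by omega)).trans hAi)
    have h2 : 2 * m ≤ s ^ 2 := by rw [hsm]; nlinarith
    have h := (hge 6 h6).trans (hbound 2 h2)
    rw [← pow_mul, ← pow_add] at h
    have := (Nat.pow_le_pow_iff_right hs.out.one_lt).1 h
    omega
  · have hk1 : k = 0 := by
      by_contra hk2
      have := (hs.out.dvd_factorial).1 ((dvd_pow_self s hk2).trans hAi)
      omega
    have h := (hge 3 h3).trans (hbound 1 (by rw [pow_one]; omega))
    rw [← pow_mul, ← pow_add] at h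
    have := (Nat.pow_le_pow_iff_right hs.out.one_lt).1 h
    omega

end Cfsg.Lib.Blocks.ThreeClasses
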