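import Cfsg.Agent.Blocks.CoprimeTransitive.Normal
import Cfsg.Agent.Blocks.ThreeClasses.Arith
import Cfsg.Agent.Blocks.ThreeClasses.EigCount
import Cfsg.Agent.Blocks.ThreeClasses.Fourier
import Cfsg.Agent.Blocks.ThreeClasses.Small

/-!
# The class number of an irreducible coprime linear group with two orbits

It is at least `p / 2`, apart from the cyclic group of order `(p - 1) / 2` in one dimension.
-/

set_option autoImplicit false
set_option linter.unusedSectionVars false
set_option linter.style.haveILetI false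

namespace Cfsg.Lib.Blocks.ThreeClasses

open Module Subgroup Polynomial
open Cfsg Cfsg.Lib.Blocks
open Cfsg.Lib.Blocks.CoprimeTransitive

universe u v

section classes

variable {H : Type u} [Group H] [Finite H]

/-- With at most three classes the order is at most six. -/
theorem card_le_six (hk : Nat.card (ConjClasses H) ≤ 3) : Nat.card H ≤ 6 := by
  classical
  haveI := Fintype.ofFinite (ConjClasses H)
  set one := ConjClasses.mk (1 : H)
  have hsum := sum_carrier (H := H)
  have hone : Nat.card one.carrier = 1 := by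
    have h := card_carrier_mul (1 : H)
    rw [show centralizer ({(1 : H)} : Set H) = ⊤ from top_unique fun y _ =>
      mem_centralizer_singleton_iff.2 (by rw [mul_one, one_mul]), Subgroup.card_top] at h
    exact Nat.eq_of_mul_eq_mul_right Nat.card_pos (h.trans (one_mul _).symm)
  rw [← Finset.add_sum_erase _ _ (Finset.mem_univ one), hone] at hsum
  have hdvd : ∀ C : ConjClasses H, Nat.card C.carrier ∣ Nat.card H := fun C => by
    obtain ⟨y, rfl⟩ := ConjClasses.exists_rep C
    exact ⟨_, (card_carrier_mul y).symm⟩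
  have key : ∀ a b : ℕ, a ≤ b → a ∣ 1 + (a + b) → b ∣ 1 + (a + b) → 1 + (a + b) ≤ 6 := by
    intro a b hab ha hb
    rcases Nat.eq_zero_or_pos a with rfl | ha0
    · rw [zero_dvd_iff] at ha; omega
    have hb' : b ∣ 1 + a := (Nat.dvd_add_left (dvd_refl b)).1 (by rwa [add_assoc])
    have hle := Nat.le_of_dvd (by omega) hb'
    rcases (by omega : b = a ∨ b = a + 1) with rfl | rfl
    · have := Nat.le_of_dvd one_pos ((Nat.dvd_add_left (dvd_refl b)).1 hb')
      omega
    · have h2 : a ∣ 2 := (Nat.dvd_add_left (⟨2, by ring⟩ : a ∣ 2 * a)).1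
        (by rwa [show 2 + 2 * a = 1 + (a + (a + 1)) by ring])
      have := Nat.le_of_dvd two_pos h2
      omega
  have hc2 : (Finset.univ.erase one).card ≤ 2 := by
    rw [Finset.card_erase_of_mem (Finset.mem_univ _), Finset.card_univ, ← Nat.card_eq_fintype_card]
    omega
  rcases (by omega : (Finset.univ.erase one).card = 0 ∨ (Finset.univ.erase one).card = 1 ∨
      (Finset.univ.erase one).card = 2) with h | h | h
  · rw [Finset.card_eq_zero.1 h, Finset.sum_empty] at hsum
    omega
  · obtain ⟨C, hC⟩ := Finset.card_eq_one.1 h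
    rw [hC, Finset.sum_singleton] at hsum
    have h1 := hdvd C
    rw [← hsum] at h1
    have := Nat.le_of_dvd one_pos ((Nat.dvd_add_left (dvd_refl _)).1 h1)
    omega
  · obtain ⟨C, D, hne, hCD⟩ := Finset.card_eq_two.1 h
    rw [hCD, Finset.sum_pair hne] at hsum
    have h1 := hdvd C
    have h2 := hdvd D
    rw [← hsum] at h1 h2 ⊢
    rcases le_total (Nat.card C.carrier) (Nat.card D.carrier) with h' | h'
    · exact key _ _ h' h1 h2
    · rw [add_comm (Nat.card C.carrier)] at h1 h2 ⊢
      exact key _ _ h' h2 h1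

/-- The classes of the elements of order `s`. -/
noncomputable def orderClasses (H : Type u) [Group H] [Finite H] (s : ℕ) : Finset (ConjClasses H) :=
  (Set.toFinite {C : ConjClasses H | ∃ g, ConjClasses.mk g = C ∧ orderOf g = s}).toFinset

theorem mem_orderClasses {s : ℕ} {C : ConjClasses H} :
    C ∈ orderClasses H s ↔ ∃ g, ConjClasses.mk g = C ∧ orderOf g = s := by simp [orderClasses]

theorem orderClasses_disjoint {s t : ℕ} (h : s ≠ t) : Disjoint (orderClasses H s) (orderClasses H t) :=
  Finset.disjoint_left.2 fun C h1 h2 => by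
    obtain ⟨g, rfl, hg⟩ := mem_orderClasses.1 h1
    obtain ⟨g', hg', hg''⟩ := mem_orderClasses.1 h2
    obtain ⟨c, hc⟩ := isConj_iff.1 (ConjClasses.mk_eq_mk_iff_isConj.1 hg')
    refine h ?_
    rw [← hg, ← hg'', ← hc]
    exact (MulAut.conj c).orderOf_eq g'

theorem sum_orderClasses_le (L : Finset ℕ) : ∑ s ∈ L, (orderClasses H s).card ≤ Nat.card (ConjClasses H) := by
  classical
  haveI := Fintype.ofFinite (ConjClasses H)
  rw [← Finset.card_biUnion fun s _ t _ hst => orderClasses_disjoint hst, Nat.card_eq_fintype_card]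
  exact Finset.card_le_univ _

theorem one_le_orderClasses {s : ℕ} (hs : s.Prime) (hd : s ∣ Nat.card H) : 1 ≤ (orderClasses H s).card := by
  haveI := Fact.mk hs
  obtain ⟨x, hx⟩ := exists_prime_orderOf_dvd_card' s hd
  exact Finset.card_pos.2 ⟨ConjClasses.mk x, mem_orderClasses.2 ⟨x, rfl, hx⟩⟩

theorem card_orderClasses_one : 1 ≤ (orderClasses H 1).card :=
  Finset.card_pos.2 ⟨ConjClasses.mk 1, mem_orderClasses.2 ⟨1, rfl, orderOf_one⟩⟩

/-- The powers of an element spread over the classes of its order. -/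
theorem sub_one_le_mul_orderClasses {x : H} {s d : ℕ} (hs : s.Prime) (hx : orderOf x = s)
    (hd : ∀ y : H, y ∈ zpowers x → orderOf y = s → Nat.card {i : Fin s // IsConj y (y ^ (i : ℕ))} ≤ d) :
    s - 1 ≤ d * (orderClasses H s).card := by
  classical
  haveI := Fintype.ofFinite H
  haveI := Fact.mk hs
  set P := (Finset.univ.filter fun y : H => y ∈ zpowers x ∧ y ≠ 1) with hP
  have hcard : P.card = s - 1 := by
    have h : P = (Finset.univ.filter fun y : H => y ∈ zpowers x).erase 1 := by
      ext y; simp [hP, and_comm]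
    rw [h, Finset.card_erase_of_mem (by simp), ← Fintype.card_subtype, ← Nat.card_eq_fintype_card,
      ← hx, ← Nat.card_zpowers]
  have hord : ∀ y ∈ P, orderOf y = s := fun y hy => by
    obtain ⟨hyx, hy1⟩ := (Finset.mem_filter.1 hy).2
    refine ((Nat.dvd_prime hs).1 ?_).resolve_left fun h => hy1 (orderOf_eq_one_iff.1 h)
    rw [← hx, ← Subgroup.orderOf_mk (a := y) (ha := hyx), ← Nat.card_zpowers x]
    exact orderOf_dvd_natCard _
  rw [← hcard]
  refine Finset.card_le_mul_card_image_of_maps_to (f := ConjClasses.mk)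
    (fun y hy => mem_orderClasses.2 ⟨y, rfl, hord y hy⟩) d fun C _ => ?_
  by_cases hne : ∃ y ∈ P, ConjClasses.mk y = C
  swap
  · rw [Finset.card_eq_zero.2 (Finset.filter_eq_empty_iff.2 fun y hy h => hne ⟨y, hy, h⟩)]
    exact Nat.zero_le _
  obtain ⟨y, hy, rfl⟩ := hne
  have hyx := (Finset.mem_filter.1 hy).2.1
  have hys := hord y hy
  have hzy : zpowers y = zpowers x := eq_of_le_of_card_ge (zpowers_le.2 hyx)
    (by rw [Nat.card_zpowers, Nat.card_zpowers, hx, hys])
  refine le_trans ?_ (hd y hyx hys)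
  rw [Nat.card_eq_fintype_card, ← Fintype.card_coe]
  have hex : ∀ z : {z // z ∈ P.filter fun z => ConjClasses.mk z = ConjClasses.mk y},
      ∃ i : Fin s, IsConj y (y ^ (i : ℕ)) ∧ y ^ (i : ℕ) = z.1 := by
    rintro ⟨z, hz⟩
    obtain ⟨hzP, hzc⟩ := Finset.mem_filter.1 hz
    have hzy' : z ∈ zpowers y := hzy ▸ (Finset.mem_filter.1 hzP).2.1
    rw [← mem_powers_iff_mem_zpowers, Submonoid.mem_powers_iff] at hzy'
    obtain ⟨i, rfl⟩ := hzy'
    have hmod : y ^ (i % s) = y ^ i := by conv_rhs => rw [← pow_mod_orderOf, hys]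
    exact ⟨⟨i % s, Nat.mod_lt _ hs.pos⟩, by
      show IsConj y (y ^ (i % s))
      rw [hmod]; exact (ConjClasses.mk_eq_mk_iff_isConj.1 hzc).symm, hmod⟩
  choose f hf1 hf2 using hex
  exact Fintype.card_le_of_injective (fun z => (⟨f z, hf1 z⟩ : {i : Fin s // IsConj y (y ^ (i : ℕ))}))
    fun z z' h => Subtype.ext (by rw [← hf2, ← hf2, show f z = f z' from congrArg Subtype.val h])

end classes

variable {p : ℕ} [hp : Fact p.Prime] {V : Type v} [AddCommGroup V] [Module (ZMod p) V] [Finite V]
  {H : Type u} [Group H] [Finite H] {ρ : H →* Module.End (ZMod p) V}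

/-- Classes of a prime order. -/
theorem le_mul_orderClasses (hinj : Function.Injective ρ) (hcop : ¬ p ∣ Nat.card H) {s : ℕ} (hs : s.Prime)
    (hd : s ∣ Nat.card H) : s - 1 ≤ finrank (ZMod p) V * (orderClasses H s).card := by
  haveI := Fact.mk hs
  obtain ⟨x, hx⟩ := exists_prime_orderOf_dvd_card' s hd
  exact sub_one_le_mul_orderClasses hs hx fun y _ hy =>
    CoprimeTransitive.conj_pow_count hinj hs hy fun e => hcop (e ▸ hd)

/-- A primitive prime of the dimension has no eigenvalue in the prime field. -/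
theorem eigenspace_eq_bot [Nontrivial V] (hinj : Function.Injective ρ) (hcop : ¬ p ∣ Nat.card H) {r : ℕ}
    [Fact r.Prime] (hn : 2 ≤ finrank (ZMod p) V) (hord : orderOf (p : ZMod r) = finrank (ZMod p) V) {h : H}
    (hh : ConjClasses.mk h ∈ orderClasses H r) (c : ZMod p) : (ρ h).eigenspace c = ⊥ := by
  obtain ⟨g, hg, hgr⟩ := mem_orderClasses.1 hh
  obtain ⟨e, he⟩ := isConj_iff.1 (ConjClasses.mk_eq_mk_iff_isConj.1 hg)
  have hhr : orderOf h = r := by rw [← hgr, ← he]; exact (MulAut.conj e).orderOf_eq g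
  obtain ⟨hirr, hdeg⟩ := ThreeChars.minpoly_irr ρ hinj hhr hord fun e' => hcop (e' ▸ hhr ▸ orderOf_dvd_natCard h)
  by_contra hne
  have h1 := degree_eq_one_of_irreducible_of_root hirr
    (Module.End.isRoot_of_hasEigenvalue (Module.End.hasEigenvalue_iff.2 hne))
  rw [Polynomial.degree_eq_natDegree hirr.ne_zero, hdeg] at h1
  have : finrank (ZMod p) V = 1 := by exact_mod_cast h1
  omega

theorem mul_lt_pow {m : ℕ} (hp7 : 7 ≤ p) (hm : 3 ≤ m) : 14 * m ^ 2 * p < p ^ (2 * m) := by
  obtain ⟨M, rfl⟩ : ∃ M, m = M + 3 := ⟨m - 3, by omega⟩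
  have h1 := mul_sq_lt_pow hp7 (2 * M + 5) (by omega)
  rw [show 2 * (M + 3) = (2 * M + 5) + 1 by ring, pow_succ p (2 * M + 5)]
  refine Nat.lt_of_le_of_lt ?_ (Nat.mul_lt_mul_of_pos_right h1 (by omega))
  have : 14 * (M + 3) ^ 2 ≤ 7 * (2 * M + 5) ^ 2 := by nlinarith
  exact Nat.mul_le_mul_right p (this.trans (Nat.mul_le_mul_right _ hp7))

/-- A normal element of order `s` whose minimal polynomial has half degree gives the bound. -/
theorem bound_of_normal_half (hinj : Function.Injective ρ) (hcop : ¬ p ∣ Nat.card H) {m : ℕ} (hp7 : 7 ≤ p)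
    (hm : 3 ≤ m) (hn : finrank (ZMod p) V = 2 * m) (hbig : p ^ finrank (ZMod p) V - 1 ≤ 2 * Nat.card H) {x : H}
    (hirr : Irreducible (minpoly (ZMod p) (ρ x))) (hdeg : (minpoly (ZMod p) (ρ x)).natDegree = m)
    (hidx : (centralizer ({x} : Set H)).index ≤ m) : p ≤ 2 * Nat.card (ConjClasses H) := by
  set C := centralizer ({x} : Set H)
  set k := Nat.card (ConjClasses H)
  have hA : AbelianCentralisers C := abelianCentralisers_half hinj hcop hirr (minpoly.aeval _ _) C
    (fun c hc => by rw [← map_mul, ← map_mul, Subgroup.mem_centralizer_singleton_iff.1 hc]) (by rw [hdeg, hn])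
  have h14 : Nat.card C ≤ 14 * Nat.card (ConjClasses C) := by
    rcases classes_two_dim hA with h | ⟨h1, h2⟩ | ⟨h1, h2, -⟩ <;> omega
  have hk := (Cfsg.Lib.Counting.classNumber_bounds C).1
  have hH : Nat.card H ≤ 14 * m ^ 2 * k := calc
    Nat.card H = C.index * Nat.card C := C.index_mul_card.symm
    _ ≤ m * (14 * (m * k)) := Nat.mul_le_mul hidx
        (h14.trans (Nat.mul_le_mul_left _ (hk.trans (Nat.mul_le_mul_right _ hidx))))
    _ = _ := by ring
  have hlt := mul_lt_pow hp7 hm
  rw [hn] at hbig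
  have h2 : 14 * m ^ 2 * p ≤ 14 * m ^ 2 * (2 * k) := by
    rw [show 14 * m ^ 2 * (2 * k) = 2 * (14 * m ^ 2 * k) by ring]
    omega
  exact Nat.le_of_mul_le_mul_left h2 (by positivity)

/-- Orbit lengths divisible by `p ^ m - 1`. -/
theorem bound_minus [Nontrivial V] (hinj : Function.Injective ρ) (hcop : ¬ p ∣ Nat.card H) {v w : V}
    (hP : IsPair ρ v w) (hirr : Irr ρ) (hp11 : 11 ≤ p) {m : ℕ} (hm : 3 ≤ m) (hn : finrank (ZMod p) V = 2 * m)
    (hdiv : p ^ m - 1 ∣ Nat.card H) : p ≤ 2 * Nat.card (ConjClasses H) := by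
  classical
  have hp7 : 7 ≤ p := by omega
  have hbig := hP.le_two_mul_card
  have h5 : 5 ≤ finrank (ZMod p) V := by omega
  have hsum := sum_orderClasses_le (H := H)
  have hprime : ∀ s : ℕ, s.Prime → s ∣ p ^ m - 1 → 1 ≤ (orderClasses H s).card := fun s hs h =>
    one_le_orderClasses hs (h.trans hdiv)
  have hmany : ∀ s : ℕ, s.Prime → s ∣ p ^ m - 1 → s - 1 ≤ 2 * m * (orderClasses H s).card := fun s hs h =>
    hn ▸ le_mul_orderClasses hinj hcop hs (h.trans hdiv)
  have hone := card_orderClasses_one (H := H)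
  rcases good_or_exception hp.out hp7 hm with ⟨s, hs, hsd, hmin, hor⟩ | hexc
  · haveI := Fact.mk hs
    have hsH := hsd.trans hdiv
    have hsp : s ≠ p := fun e => hcop (e ▸ hsH)
    have hord : orderOf (p : ZMod s) = m := orderOf_eq_of_ppd hp.out.pos (by omega) hsd hmin
    by_cases hnop : ∀ Q : Subgroup H, Q.Normal → IsPGroup s Q → Q = ⊥
    · exfalso
      obtain ⟨h6, h3⟩ := sylow_bound hinj hcop (by omega) hn hsp hord hnop
      rcases hor with h | ⟨h, h'⟩ | ⟨h, h'⟩
      · have := large_prime hinj hcop hsH hnop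
        omega
      · exact h6 h (h'.trans hdiv)
      · exact h3 h (h'.trans hdiv)
    push Not at hnop
    obtain ⟨Q, hQn, hQ, hQne⟩ := hnop
    rcases normal_pgroup hinj hcop hP hirr h5 hsp hQ hQne with h | ⟨x, -, -, hxirr, hdeg, hidx⟩
    · exact h
    exact bound_of_normal_half hinj hcop hp7 hm hn hbig hxirr (hdeg.trans hord) (hord ▸ hidx)
  simp only [exceptions, List.mem_cons, Prod.mk.injEq, List.not_mem_nil, or_false] at hexc
  rcases hexc with ⟨rfl, rfl⟩ | ⟨rfl, rfl⟩ | ⟨rfl, rfl⟩ | ⟨rfl, rfl⟩ | ⟨rfl, rfl⟩ | ⟨rfl, rfl⟩ | ⟨rfl, rfl⟩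
  · omega
  · have := hsum {1, 2, 3, 5, 7, 17}
    simp only [Finset.sum_insert, Finset.mem_insert, Finset.mem_singleton, Finset.sum_singleton,
      OfNat.ofNat_ne_one, OfNat.one_ne_ofNat, Nat.reduceEqDiff, or_self, not_false_eq_true] at this
    have := hprime 2 (by norm_num) (by norm_num)
    have := hprime 3 (by norm_num) (by norm_num)
    have := hprime 5 (by norm_num) (by norm_num)
    have := hprime 7 (by norm_num) (by norm_num)
    have := hmany 17 (by norm_num) (by norm_num)
    omega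
  · haveI : Fact (Nat.Prime 23) := ⟨by norm_num⟩
    have h23 : 23 ∣ Nat.card H := (show 23 ∣ 47 ^ 4 - 1 by norm_num).trans hdiv
    by_cases hnop : ∀ Q : Subgroup H, Q.Normal → IsPGroup 23 Q → Q = ⊥
    · have := large_prime hinj hcop h23 hnop
      omega
    push Not at hnop
    obtain ⟨Q, hQn, hQ, hQne⟩ := hnop
    rcases normal_pgroup hinj hcop hP hirr h5 (by norm_num) hQ hQne with h | ⟨x, hx, -, -, -, hidx⟩
    · exact h
    have h1 : orderOf ((47 : ℕ) : ZMod 23) = 1 := by rw [orderOf_eq_one_iff]; rfl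
    rw [h1] at hidx
    have htop : centralizer ({x} : Set H) = ⊤ := Subgroup.index_eq_one.1
      (le_antisymm hidx (Nat.pos_of_ne_zero Subgroup.index_ne_zero_of_finite))
    have hxc : ∀ y ∈ zpowers x, ∀ e : H, e * y * e⁻¹ = y := by
      intro y hy e
      obtain ⟨i, rfl⟩ := mem_zpowers_iff.1 hy
      have he : e ∈ centralizer ({x} : Set H) := htop ▸ mem_top e
      have hcm : Commute e (x ^ i) := Commute.zpow_right (Subgroup.mem_centralizer_singleton_iff.1 he : e * x = x * e) i
      rw [hcm.eq, mul_inv_cancel_right]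
    have hcl := sub_one_le_mul_orderClasses (d := 1) (by norm_num : Nat.Prime 23) hx fun y hy hys => by
      rw [Finite.card_le_one_iff_subsingleton]
      refine ⟨fun ⟨i, hi⟩ ⟨j, hj⟩ => Subtype.ext (Fin.ext ?_)⟩
      obtain ⟨e, he⟩ := isConj_iff.1 hi
      obtain ⟨e', he'⟩ := isConj_iff.1 hj
      rw [hxc y hy] at he he'
      exact pow_injOn_Iio_orderOf (by simp [hys]) (by simp [hys]) (he.symm.trans he')
    have := hsum {1, 2, 23}
    simp only [Finset.sum_insert, Finset.mem_insert, Finset.mem_singleton, Finset.sum_singleton,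
      OfNat.ofNat_ne_one, OfNat.one_ne_ofNat, Nat.reduceEqDiff, or_self, not_false_eq_true] at this
    have := hprime 2 (by norm_num) (by norm_num)
    omega
  · have := hmany 307 (by norm_num) (by norm_num)
    have := hsum {307}
    rw [Finset.sum_singleton] at this
    omega
  · have := hmany 127 (by norm_num) (by norm_num)
    have := hsum {127}
    rw [Finset.sum_singleton] at this
    omega
  · have := hsum {1, 2, 3, 7, 11, 13, 79}
    simp only [Finset.sum_insert, Finset.mem_insert, Finset.mem_singleton, Finset.sum_singleton,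
      OfNat.ofNat_ne_one, OfNat.one_ne_ofNat, Nat.reduceEqDiff, or_self, not_false_eq_true] at this
    have := hprime 2 (by norm_num) (by norm_num)
    have := hprime 3 (by norm_num) (by norm_num)
    have := hprime 7 (by norm_num) (by norm_num)
    have := hprime 11 (by norm_num) (by norm_num)
    have := hprime 13 (by norm_num) (by norm_num)
    have := hmany 79 (by norm_num) (by norm_num)
    omega
  · have := hmany 331 (by norm_num) (by norm_num)
    have := hsum {331}
    rw [Finset.sum_singleton] at this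
    omega

/-- Primitive primes of `p ^ n - 1` dividing the order as far as needed. -/
theorem bound_ppd [Nontrivial V] (hinj : Function.Injective ρ) (hcop : ¬ p ∣ Nat.card H) {v w : V}
    (hP : IsPair ρ v w) (hp7 : 7 ≤ p) (hn : 3 ≤ finrank (ZMod p) V)
    (hexc : p = 17 → finrank (ZMod p) V = 6 → p ≤ 2 * Nat.card (ConjClasses H))
    (hdiv : ∀ s : ℕ, s.Prime → s ∣ p ^ finrank (ZMod p) V - 1 →
      (∀ i, 0 < i → i < finrank (ZMod p) V → ¬ s ∣ p ^ i - 1) →
      ∀ e, s ^ e ∣ p ^ finrank (ZMod p) V - 1 → s ^ e ∣ Nat.card H) :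
    p ≤ 2 * Nat.card (ConjClasses H) := by
  classical
  set n := finrank (ZMod p) V with hnd
  rcases ppd_large_or_sq hp.out hp7 hn with ⟨s, hs, hsd, hmin, hor⟩ | ⟨h17, h6⟩
  swap
  · exact hexc h17 h6
  haveI := Fact.mk hs
  have hord : orderOf (p : ZMod s) = n := orderOf_eq_of_ppd hp.out.pos (by omega) hsd hmin
  have hsH : s ∣ Nat.card H := by
    have := hdiv s hs hsd hmin 1 (by rwa [pow_one])
    rwa [pow_one] at this
  have hsp : s ≠ p := fun e => hcop (e ▸ hsH)
  by_cases hno : ∀ X : Subgroup H, X.Normal → Nat.card X ≠ s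
  · exfalso
    obtain ⟨hsq, -, N, hN, -, -, hb⟩ := nonnormal_bound hinj hcop hord hsH hno
    rcases hor with h | h
    · omega
    · exact hsq (hdiv s hs hsd hmin 2 h)
  push Not at hno
  obtain ⟨X, hXn, hXc⟩ := hno
  haveI := hXn
  obtain ⟨⟨x, hxX⟩, hx⟩ := exists_prime_orderOf_dvd_card' s hXc.symm.dvd
  rw [Subgroup.orderOf_mk] at hx
  have hzx : zpowers x = X := eq_of_le_of_card_ge (zpowers_le.2 hxX) (by rw [Nat.card_zpowers, hx, hXc])
  set C := centralizer ({x} : Set H)
  have hidx : C.index ≤ n := by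
    have h1 : Nat.card (ConjClasses.mk x).carrier = C.index :=
      Nat.eq_of_mul_eq_mul_right Nat.card_pos (by rw [card_carrier_mul, C.index_mul_card])
    rw [← h1, hnd]
    refine le_trans ?_ (CoprimeTransitive.conj_pow_count hinj hs hx hsp)
    have hex : ∀ y : (ConjClasses.mk x).carrier, ∃ i : Fin s, IsConj x (x ^ (i : ℕ)) ∧ x ^ (i : ℕ) = y.1 := by
      rintro ⟨y, hy⟩
      have hc : IsConj x y := (ConjClasses.mk_eq_mk_iff_isConj.1 (ConjClasses.mem_carrier_iff_mk_eq.1 hy)).symm
      obtain ⟨e, he⟩ := isConj_iff.1 hc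
      have hyX : y ∈ zpowers x := by rw [hzx, ← he]; exact hXn.conj_mem x hxX e
      rw [← mem_powers_iff_mem_zpowers, Submonoid.mem_powers_iff] at hyX
      obtain ⟨i, rfl⟩ := hyX
      have hmod : x ^ (i % s) = x ^ i := by conv_rhs => rw [← pow_mod_orderOf, hx]
      exact ⟨⟨i % s, Nat.mod_lt _ hs.pos⟩, by show IsConj x (x ^ (i % s)); rw [hmod]; exact hc, hmod⟩
    choose f hf1 hf2 using hex
    refine Nat.card_le_card_of_injective (fun y => ⟨f y, hf1 y⟩) fun y y' h => ?_
    exact Subtype.ext (by rw [← hf2, ← hf2, show f y = f y' from congrArg Subtype.val h])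
  have hcomm : ∀ a ∈ C, ∀ b ∈ C, a * b = b * a := by
    intro a ha b hb
    haveI : IsCyclic C := ThreeChars.centralizer_cyclic ρ hinj hx (hord.trans hnd) hsp
    obtain ⟨g, hg⟩ := IsCyclic.exists_generator (α := C)
    obtain ⟨i, hi⟩ := mem_zpowers_iff.1 (hg ⟨a, ha⟩)
    obtain ⟨j, hj⟩ := mem_zpowers_iff.1 (hg ⟨b, hb⟩)
    have h : (⟨a, ha⟩ : C) * ⟨b, hb⟩ = ⟨b, hb⟩ * ⟨a, ha⟩ := by
      rw [← hi, ← hj, ← zpow_add, ← zpow_add, add_comm]
    exact congrArg Subtype.val h
  have hk := card_le_index_mul_classes C hcomm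
  have hH : Nat.card H ≤ n ^ 2 * Nat.card (ConjClasses H) := calc
    Nat.card H = C.index * Nat.card C := C.index_mul_card.symm
    _ ≤ n * (n * Nat.card (ConjClasses H)) := Nat.mul_le_mul hidx (hk.trans (Nat.mul_le_mul_right _ hidx))
    _ = _ := by ring
  have h3 := mul_sq_lt_pow hp7 n hn
  have hbig := hP.le_two_mul_card
  rw [← hnd] at hbig
  have h2 : n ^ 2 * p ≤ n ^ 2 * (2 * Nat.card (ConjClasses H)) := by
    rw [show n ^ 2 * (2 * Nat.card (ConjClasses H)) = 2 * (n ^ 2 * Nat.card (ConjClasses H)) by ring, mul_comm _ p]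
    omega
  exact Nat.le_of_mul_le_mul_left h2 (by positivity)

/-- Two orbits of the same size in the plane. -/
theorem bound_plane [Nontrivial V] (hinj : Function.Injective ρ) (hcop : ¬ p ∣ Nat.card H) {v w : V}
    (hP : IsPair ρ v w) (hp11 : 11 ≤ p) (h2 : finrank (ZMod p) V = 2) :
    p ≤ 2 * Nat.card (ConjClasses H) := by
  have hbig := hP.le_two_mul_card
  rw [h2] at hbig
  have hsq : 11 * p ≤ p ^ 2 := by rw [pow_two]; exact Nat.mul_le_mul_right p hp11
  rcases classes_two_dim (abelianCentralisers_of_two hinj hcop (by omega) h2) with h | ⟨ha, hb⟩ | ⟨ha, hb, -⟩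
  · omega
  · omega
  · by_contra hlt
    have h14 : p < 14 := by
      by_contra h
      have := Nat.mul_le_mul_right p (show 14 ≤ p by omega)
      rw [← pow_two] at this
      omega
    omega

/-- **The bound.** -/
theorem two_orbit_bound [Nontrivial V] (hinj : Function.Injective ρ) (hcop : ¬ p ∣ Nat.card H) {v w : V}
    (hP : IsPair ρ v w) (hirr : Irr ρ) :
    p ≤ 2 * Nat.card (ConjClasses H) ∨
      (finrank (ZMod p) V = 1 ∧ 2 * Nat.card H = p - 1 ∧ Nat.card (ConjClasses H) = Nat.card H) := by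
  classical
  have hn0 : 0 < finrank (ZMod p) V := Module.finrank_pos
  set k := Nat.card (ConjClasses H) with hk
  have hbig := hP.le_two_mul_card
  have hadd := hP.card_add
  by_cases h1 : finrank (ZMod p) V = 1
  · right
    obtain ⟨u, hu, hspan⟩ := finrank_eq_one_iff'.1 h1
    have hfree : ∀ (x : V) (h : H), x ≠ 0 → ρ h x = x → h = 1 := by
      intro x h hx hfix
      obtain ⟨c, rfl⟩ := hspan x
      have hc : c ≠ 0 := fun e => hx (by rw [e, zero_smul])
      refine hinj (LinearMap.ext fun y => ?_)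
      obtain ⟨d, rfl⟩ := hspan y
      rw [map_smul] at hfix
      have hu' : ρ h u = u := smul_right_injective V hc hfix
      rw [map_one, Module.End.one_apply, map_smul, hu']
    have hcard : ∀ x : V, x ≠ 0 → Nat.card (orb ρ x) = Nat.card H := fun x hx => by
      rw [card_orb, show stab ρ x = ⊥ from (Subgroup.eq_bot_iff_forall _).2 fun h hh => hfree x h hx hh,
        Subgroup.index_bot]
    rw [h1, pow_one, hcard v hP.left, hcard w hP.right] at hadd
    refine ⟨h1, by omega, card_classes_of_comm fun a b => hinj (LinearMap.ext fun x => ?_)⟩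
    obtain ⟨c, rfl⟩ := hspan x
    obtain ⟨r, hr⟩ := hspan (ρ a u)
    obtain ⟨t, ht⟩ := hspan (ρ b u)
    rw [map_mul, map_mul, Module.End.mul_apply, Module.End.mul_apply]
    simp only [map_smul, ← hr, ← ht]
    rw [smul_comm r t]
  left
  have hn2 : 2 ≤ finrank (ZMod p) V := by omega
  have hp2 := hp.out.two_le
  have hk1 : 1 ≤ k := Nat.card_pos
  have hsqle : p ^ 2 ≤ p ^ finrank (ZMod p) V := Nat.pow_le_pow_right (by omega) hn2
  rcases (by omega : p ≤ 2 ∨ p = 3 ∨ p = 4 ∨ p = 5 ∨ p = 6 ∨ p = 7 ∨ p = 8 ∨ p = 9 ∨ p = 10 ∨ 11 ≤ p) with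
    h | h | h | h | h | h | h | h | h | hp11
  · omega
  · by_contra hlt
    have := card_le_six (H := H) (by omega)
    subst h
    have h4 : 1 < Nat.card H := by omega
    haveI : Nontrivial H := Finite.one_lt_card_iff_nontrivial.1 h4
    obtain ⟨x, hx⟩ := exists_ne (1 : H)
    haveI : Nontrivial (ConjClasses H) := ⟨⟨ConjClasses.mk x, ConjClasses.mk 1, fun h' => hx (isConj_one_right.1
      (ConjClasses.mk_eq_mk_iff_isConj.1 h').symm)⟩⟩
    have : 1 < k := Finite.one_lt_card
    omega
  · exact absurd hp.out (h ▸ by norm_num)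
  · by_contra hlt
    have := card_le_six (H := H) (by omega)
    subst h
    omega
  · exact absurd hp.out (h ▸ by norm_num)
  · by_contra hlt
    have := card_le_six (H := H) (by omega)
    subst h
    omega
  · exact absurd hp.out (h ▸ by norm_num)
  · exact absurd hp.out (h ▸ by norm_num)
  · exact absurd hp.out (h ▸ by norm_num)
  rcases hP.scalar_or_equal with hscal | heq
  swap
  · -- orbits of the same size
    rcases (by omega : finrank (ZMod p) V = 2 ∨ 3 ≤ finrank (ZMod p) V) with h2 | h3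
    · exact bound_plane hinj hcop hP hp11 h2
    refine bound_ppd hinj hcop hP (by omega) h3 (fun h17 h6 => ?_) fun s hs hsd hmin e he => ?_
    · have h307 : 307 ∣ Nat.card H := by
        refine dvd_trans ?_ (card_orb_dvd (ρ := ρ) v)
        have h := (show 307 ∣ 2 * Nat.card (orb ρ v) by subst h17; rw [heq, h6]; norm_num)
        exact (Nat.Coprime.dvd_mul_left (by norm_num)).1 h
      have := le_mul_orderClasses hinj hcop (by norm_num : Nat.Prime 307) h307
      have h' := sum_orderClasses_le (H := H) {307}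
      rw [Finset.sum_singleton] at h'
      rw [h6] at this
      omega
    · have hs2 : s ≠ 2 := by
        rintro rfl
        obtain ⟨c, hc⟩ := hp.out.odd_of_ne_two (by omega)
        exact hmin 1 one_pos (by omega) ⟨c, by rw [pow_one]; omega⟩
      refine dvd_trans ?_ (card_orb_dvd (ρ := ρ) v)
      refine (Nat.Coprime.pow_left e ?_).dvd_of_dvd_mul_left (heq ▸ he)
      exact (Nat.coprime_primes hs Nat.prime_two).2 hs2
  -- orbits that are unions of lines
  have hcount := eig_count hP hscal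
  rcases (by omega : finrank (ZMod p) V = 2 ∨ finrank (ZMod p) V = 3 ∨ finrank (ZMod p) V = 4 ∨
      5 ≤ finrank (ZMod p) V) with h | h | h | h5
  · rw [h] at hcount; omega
  · rw [h] at hcount; omega
  · rw [h] at hcount; omega
  obtain ⟨i, hi, hpm⟩ := fourier hcop hP hscal
  rcases hpm with ⟨hplus, -⟩ | ⟨hminus, -⟩
  swap
  · exact bound_minus hinj hcop hP hirr hp11 (by omega) hi (hminus.trans (card_orb_dvd v))
  have hplus' : p ^ i + 1 ∣ Nat.card H := hplus.trans (card_orb_dvd v)
  refine bound_ppd hinj hcop hP (by omega) (by omega) (fun h17 h6 => ?_) fun s hs hsd hmin e he => ?_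
  · haveI : Fact (Nat.Prime 7) := ⟨by norm_num⟩
    haveI : Fact (Nat.Prime 13) := ⟨by norm_num⟩
    subst h17
    have h3 : i = 3 := by omega
    subst h3
    have h7 : 7 ∣ Nat.card H := (show 7 ∣ 17 ^ 3 + 1 by norm_num).trans hplus'
    have h13 : 13 ∣ Nat.card H := (show 13 ∣ 17 ^ 3 + 1 by norm_num).trans hplus'
    have hZ : ∀ r : ℕ, [Fact r.Prime] → orderOf ((17 : ℕ) : ZMod r) = 6 → ∀ g : H,
        ConjClasses.mk g ∈ orderClasses H r → ∀ c : ZMod 17, (ρ g).eigenspace c = ⊥ := fun r _ hr g hg c =>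
      eigenspace_eq_bot hinj hcop (by omega) (hr.trans h6.symm) hg c
    have ho7 : orderOf ((17 : ℕ) : ZMod 7) = 6 := orderOf_eq_of_ppd (by norm_num) (by norm_num) (by norm_num)
      (fun j hj hj6 => by revert hj; revert j; decide +kernel)
    have ho13 : orderOf ((17 : ℕ) : ZMod 13) = 6 := orderOf_eq_of_ppd (by norm_num) (by norm_num) (by norm_num)
      (fun j hj hj6 => by revert hj; revert j; decide +kernel)
    have h := eig_count_sub hP hscal (orderClasses H 7 ∪ orderClasses H 13) fun g hg => by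
      rcases Finset.mem_union.1 hg with hg | hg
      · exact hZ 7 ho7 g hg
      · exact hZ 13 ho13 g hg
    rw [Finset.card_union_of_disjoint (orderClasses_disjoint (by norm_num)), h6] at h
    have c7 := one_le_orderClasses (by norm_num : Nat.Prime 7) h7
    have c13 := le_mul_orderClasses hinj hcop (by norm_num : Nat.Prime 13) h13
    rw [h6] at c13
    omega
  · have hsq : (p ^ i - 1) * (p ^ i + 1) = p ^ finrank (ZMod p) V - 1 := by
      rw [mul_comm, ← Nat.sq_sub_sq, one_pow, hi, ← pow_mul, mul_comm i 2]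
    refine dvd_trans ?_ hplus'
    refine (Nat.Coprime.pow_left e ?_).dvd_of_dvd_mul_left (hsq ▸ he)
    exact hs.coprime_iff_not_dvd.2 (hmin i (by omega) (by omega))

end Cfsg.Lib.Blocks.ThreeClasses
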