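import Cfsg.Agent.Blocks.CoprimeTransitive.Exceptional
import Cfsg.Agent.Blocks.CoprimeTransitive.Transitive

/-!
# Coprime linear groups with two orbits on the nonzero vectors
-/

set_option autoImplicit false
set_option linter.unusedSectionVars false
set_option linter.style.haveILetI false

namespace Cfsg.Lib.Blocks.ThreeClasses

open Module
open Cfsg.Lib.Blocks.CoprimeTransitive

universe u v

variable {p : ℕ} [hp : Fact p.Prime] {V : Type v} [AddCommGroup V] [Module (ZMod p) V] [Finite V]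
  {H : Type u} [Group H] [Finite H]

/-- The orbit of a vector. -/
def orb (ρ : H →* Module.End (ZMod p) V) (v : V) : Set V := Set.range fun h : H => ρ h v

/-- Two orbits on the nonzero vectors, with representatives `v` and `w`. -/
structure IsPair (ρ : H →* Module.End (ZMod p) V) (v w : V) : Prop where
  left : v ≠ 0
  right : w ≠ 0
  ne : w ∉ orb ρ v
  cover : ∀ u : V, u ≠ 0 → u ∈ orb ρ v ∨ u ∈ orb ρ w

variable {ρ : H →* Module.End (ZMod p) V}

theorem mem_orb_self (v : V) : v ∈ orb ρ v := ⟨1, by simp⟩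

theorem rho_mem_orb {v u : V} (h : H) (hu : u ∈ orb ρ v) : ρ h u ∈ orb ρ v := by
  obtain ⟨g, rfl⟩ := hu
  exact ⟨h * g, by simp⟩

theorem orb_eq {v u : V} (hu : u ∈ orb ρ v) : orb ρ u = orb ρ v := by
  obtain ⟨g, rfl⟩ := hu
  refine Set.ext fun x => ⟨?_, ?_⟩
  · rintro ⟨h, rfl⟩
    exact ⟨h * g, by simp⟩
  · rintro ⟨h, rfl⟩
    refine ⟨h * g⁻¹, ?_⟩
    show ρ (h * g⁻¹) (ρ g v) = ρ h v
    rw [← Module.End.mul_apply, ← map_mul, inv_mul_cancel_right]

theorem orb_symm {v u : V} (hu : u ∈ orb ρ v) : v ∈ orb ρ u := orb_eq hu ▸ mem_orb_self v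

theorem ne_zero_of_mem {v u : V} (hv : v ≠ 0) (hu : u ∈ orb ρ v) : u ≠ 0 := by
  obtain ⟨g, rfl⟩ := hu
  exact rho_ne_zero g hv

theorem card_orb (v : V) : Nat.card (orb ρ v) = (stab ρ v).index := by
  rw [Subgroup.index]
  refine (Nat.card_congr (Equiv.ofBijective (Quotient.lift
    (fun h : H => (⟨ρ h v, h, rfl⟩ : orb ρ v)) ?_) ⟨?_, ?_⟩)).symm
  · intro a b h
    have h' : ρ (a⁻¹ * b) v = v := QuotientGroup.leftRel_apply.1 h
    refine Subtype.ext ?_
    show ρ a v = ρ b v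
    conv_lhs => rw [← h']
    rw [← Module.End.mul_apply, ← map_mul, mul_inv_cancel_left]
  · rintro ⟨a⟩ ⟨b⟩ h
    have h' : ρ a v = ρ b v := congrArg Subtype.val h
    refine Quotient.sound (QuotientGroup.leftRel_apply.2 ?_)
    show ρ (a⁻¹ * b) v = v
    rw [map_mul, Module.End.mul_apply, ← h', conj_mul_apply]
  · rintro ⟨u, h, rfl⟩
    exact ⟨Quotient.mk'' h, rfl⟩

theorem card_orb_dvd (v : V) : Nat.card (orb ρ v) ∣ Nat.card H := card_orb (ρ := ρ) v ▸ Subgroup.index_dvd_card _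

theorem card_orb_le (v : V) : Nat.card (orb ρ v) ≤ Nat.card H := Nat.le_of_dvd Nat.card_pos (card_orb_dvd v)

theorem card_orb_pos (v : V) : 0 < Nat.card (orb ρ v) := by
  haveI : Nonempty (orb ρ v) := ⟨⟨v, mem_orb_self v⟩⟩
  exact Nat.card_pos

namespace IsPair

variable {v w : V} (hP : IsPair ρ v w)

include hP

theorem symm : IsPair ρ w v :=
  ⟨hP.right, hP.left, fun h => hP.ne (orb_symm h), fun u hu => (hP.cover u hu).symm⟩

theorem disjoint {u : V} (h1 : u ∈ orb ρ v) (h2 : u ∈ orb ρ w) : False :=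
  hP.ne (by rw [← orb_eq h1, orb_eq h2]; exact mem_orb_self w)

theorem card_add : Nat.card (orb ρ v) + Nat.card (orb ρ w) = p ^ finrank (ZMod p) V - 1 := by
  classical
  haveI := Fintype.ofFinite V
  rw [← card_nonzero, ← Nat.card_sum]
  refine Nat.card_congr (Equiv.ofBijective (Sum.elim
    (fun u => (⟨u.1, ne_zero_of_mem hP.left u.2⟩ : {u : V // u ≠ 0}))
    (fun u => ⟨u.1, ne_zero_of_mem hP.right u.2⟩)) ⟨?_, ?_⟩)
  · rintro (⟨a, ha⟩ | ⟨a, ha⟩) (⟨b, hb⟩ | ⟨b, hb⟩) h <;> simp only [Sum.elim_inl, Sum.elim_inr] at h <;>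
      have h' : a = b := congrArg Subtype.val h <;> subst h'
    · rfl
    · exact (hP.disjoint ha hb).elim
    · exact (hP.disjoint hb ha).elim
    · rfl
  · rintro ⟨u, hu⟩
    rcases hP.cover u hu with h | h
    · exact ⟨Sum.inl ⟨u, h⟩, rfl⟩
    · exact ⟨Sum.inr ⟨u, h⟩, rfl⟩

theorem le_two_mul_card : p ^ finrank (ZMod p) V - 1 ≤ 2 * Nat.card H := by
  have h1 := card_orb_le (ρ := ρ) v
  have h2 := card_orb_le (ρ := ρ) w
  have := hP.card_add
  omega

/-- Of three nonzero vectors two are conjugate. -/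
theorem two_of_three {a b c : V} (ha : a ≠ 0) (hb : b ≠ 0) (hc : c ≠ 0) :
    b ∈ orb ρ a ∨ c ∈ orb ρ a ∨ c ∈ orb ρ b := by
  rcases hP.cover a ha with h1 | h1 <;> rcases hP.cover b hb with h2 | h2 <;>
    rcases hP.cover c hc with h3 | h3
  all_goals first
    | exact Or.inl (by rw [orb_eq h1]; exact h2)
    | exact Or.inr (Or.inl (by rw [orb_eq h1]; exact h3))
    | exact Or.inr (Or.inr (by rw [orb_eq h2]; exact h3))

/-- Either the orbits are unions of lines or they have the same size. -/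
theorem scalar_or_equal :
    (∀ c : ZMod p, c ≠ 0 → ∀ u : V, c • u ∈ orb ρ u) ∨
      2 * Nat.card (orb ρ v) = p ^ finrank (ZMod p) V - 1 := by
  by_cases hall : ∀ c : ZMod p, c ≠ 0 → ∀ u : V, c • u ∈ orb ρ u
  · exact Or.inl hall
  right
  push Not at hall
  obtain ⟨c, hc, u, hu⟩ := hall
  have hu0 : u ≠ 0 := fun e => hu (by rw [e, smul_zero]; exact ⟨1, by simp⟩)
  have hcu : c • u ≠ 0 := smul_ne_zero hc hu0
  have heq : Nat.card (orb ρ u) = Nat.card (orb ρ (c • u)) := by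
    refine Nat.card_congr (Equiv.ofBijective (fun x => (⟨c • x.1, by
      obtain ⟨h, hh⟩ := x.2
      exact ⟨h, by show ρ h (c • u) = c • x.1; rw [map_smul, show ρ h u = x.1 from hh]⟩⟩ : orb ρ (c • u))) ⟨?_, ?_⟩)
    · intro a b h
      exact Subtype.ext (smul_right_injective V hc (congrArg Subtype.val h))
    · rintro ⟨x, h, rfl⟩
      exact ⟨⟨ρ h u, h, rfl⟩, Subtype.ext (map_smul (ρ h) c u).symm⟩
  have hadd := hP.card_add
  rcases hP.cover u hu0 with h1 | h1 <;> rcases hP.cover _ hcu with h2 | h2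
  · exact absurd (by rw [orb_eq h1]; exact h2) hu
  · rw [orb_eq h1, orb_eq h2] at heq; omega
  · rw [orb_eq h1, orb_eq h2] at heq; omega
  · exact absurd (by rw [orb_eq h1]; exact h2) hu

end IsPair

end Cfsg.Lib.Blocks.ThreeClasses
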