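import Cfsg.Agent.Blocks.ThreeClasses.Bound
import Cfsg.Agent.S4878

/-!
# Reduction to a coprime linear group with two orbits
-/

set_option autoImplicit false
set_option linter.unusedSectionVars false
set_option linter.style.haveILetI false

namespace Cfsg.Lib.Blocks.ThreeClasses

open Subgroup
open Cfsg
open Cfsg.Lib.Blocks.CoprimeTransitive (RegClass)

universe u

open Module in
/-- A coprime group of automorphisms with two orbits on the non-identity elements and no invariant subgroups. -/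
theorem action_bound {p : ℕ} [hp : Fact p.Prime] {H : Type u} [Group H] [Finite H] {A : Type u} [CommGroup A]
    [Finite A] [Nontrivial A] [Module (ZMod p) (Additive A)] (act : H →* MulAut A) (hinj : Function.Injective act)
    (hcop : ¬ p ∣ Nat.card H) (v w : A) (hv : v ≠ 1) (hw : w ≠ 1) (hne : ∀ h, act h v ≠ w)
    (hcover : ∀ u : A, u ≠ 1 → (∃ h, act h v = u) ∨ ∃ h, act h w = u)
    (hmin : ∀ B : Subgroup A, (∀ h, ∀ x ∈ B, act h x ∈ B) → B = ⊥ ∨ B = ⊤) :
    p ≤ 2 * Nat.card (ConjClasses H) ∨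
      (Nat.card A = p ∧ 2 * Nat.card H = p - 1 ∧ Nat.card (ConjClasses H) = Nat.card H) := by
  let ρ : H →* Module.End (ZMod p) (Additive A) :=
    { toFun := fun x => (MonoidHom.toAdditive (act x).toMonoidHom).toZModLinearMap p
      map_one' := LinearMap.ext fun v => by simp <;> rfl
      map_mul' := fun x y => LinearMap.ext fun v => by simp <;> rfl }
  have hval : ∀ (x : H) (v : Additive A), Additive.toMul (ρ x v) = act x (Additive.toMul v) := fun x v => rfl
  have hinj' : Function.Injective ρ := fun a b h => hinj (MulEquiv.ext fun v => by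
    have := congrArg (fun f : Module.End (ZMod p) (Additive A) => Additive.toMul (f (Additive.ofMul v))) h
    simpa [hval] using this)
  have hP : IsPair ρ (Additive.ofMul v) (Additive.ofMul w) := by
    refine ⟨fun e => hv (Additive.ofMul.injective e), fun e => hw (Additive.ofMul.injective e), ?_, fun u hu => ?_⟩
    · rintro ⟨h, hh⟩
      exact hne h ((hval h (Additive.ofMul v)).symm.trans (congrArg Additive.toMul hh))
    · rcases hcover (Additive.toMul u) (fun e => hu (Additive.toMul.injective e)) with ⟨h, hh⟩ | ⟨h, hh⟩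
      · exact Or.inl ⟨h, Additive.toMul.injective ((hval h _).trans hh)⟩
      · exact Or.inr ⟨h, Additive.toMul.injective ((hval h _).trans hh)⟩
  have hirr : Irr ρ := by
    intro W hW
    let B : Subgroup A :=
      { carrier := {a | Additive.ofMul a ∈ W}
        one_mem' := W.zero_mem
        mul_mem' := fun {a b} ha hb => W.add_mem ha hb
        inv_mem' := fun {a} ha => W.neg_mem ha }
    rcases hmin B (fun h a ha => hW h (Additive.ofMul a) ha) with h | h
    · left
      rw [Submodule.eq_bot_iff]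
      intro u hu
      exact Additive.toMul.injective (Subgroup.mem_bot.1 (h ▸ (hu : Additive.toMul u ∈ B)))
    · exact Or.inr (top_unique fun u _ => (h.symm ▸ Subgroup.mem_top (Additive.toMul u) : Additive.toMul u ∈ B))
  rcases two_orbit_bound hinj' hcop hP hirr with h | ⟨h1, h2, h3⟩
  · exact Or.inl h
  · refine Or.inr ⟨?_, h2, h3⟩
    have := Cfsg.Lib.Blocks.CoprimeTransitive.card_vectors (p := p) (V := Additive A)
    rw [h1, pow_one] at this
    exact this

/-- An elementary abelian self-centralising normal subgroup with a coprime complement. -/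
structure TwoSetting (p : ℕ) {X : Type u} [Group X] (Q K : Subgroup X) : Prop where
  normal : Q.Normal
  comm : ∀ a ∈ Q, ∀ b ∈ Q, a * b = b * a
  exp : ∀ a ∈ Q, a ^ p = 1
  cop : ¬ p ∣ Nat.card K
  self : centralizer (Q : Set X) ≤ Q
  compl : IsComplement' Q K
  ne : Q ≠ ⊥

namespace TwoSetting

variable {p : ℕ} [hp : Fact p.Prime] {X : Type u} [Group X] [Finite X] {Q K : Subgroup X}
  (S : TwoSetting p Q K)

include S

theorem decomp (x : X) : ∃ q ∈ Q, ∃ k ∈ K, q * k = x := by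
  obtain ⟨⟨⟨q, hq⟩, ⟨k, hk⟩⟩, h⟩ := S.compl.2 x
  exact ⟨q, hq, k, hk, h⟩

theorem eq_of_mk {k k' : X} (hk : k ∈ K) (hk' : k' ∈ K) (h : k⁻¹ * k' ∈ Q) : k = k' := by
  have : k⁻¹ * k' ∈ Q ⊓ K := Subgroup.mem_inf.2 ⟨h, mul_mem (inv_mem hk) hk'⟩
  rw [S.compl.disjoint.eq_bot, Subgroup.mem_bot, inv_mul_eq_one] at this
  exact this

theorem isPGroup : IsPGroup p Q := fun a => ⟨1, Subtype.ext (by
  rw [pow_one, SubmonoidClass.coe_pow, OneMemClass.coe_one, S.exp a a.2])⟩

theorem coprime : (Nat.card Q).Coprime (Nat.card K) := by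
  obtain ⟨m, hm⟩ := IsPGroup.iff_card.1 S.isPGroup
  rw [hm]
  exact Nat.Coprime.pow_left _ (hp.out.coprime_iff_not_dvd.2 S.cop)

/-- The retraction onto the complement, as a quotient map. -/
theorem mk_bijective [Q.Normal] : Function.Bijective ((QuotientGroup.mk' Q).comp K.subtype) := by
  refine ⟨fun a b h => Subtype.ext (S.eq_of_mk a.2 b.2 (QuotientGroup.eq.1 h)), fun x => ?_⟩
  obtain ⟨y, rfl⟩ := QuotientGroup.mk'_surjective Q x
  obtain ⟨q, hq, k, hk, rfl⟩ := S.decomp y
  exact ⟨⟨k, hk⟩, (QuotientGroup.eq.2 (by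
    show k⁻¹ * (q * k) ∈ Q
    rw [show k⁻¹ * (q * k) = k⁻¹ * q * (k⁻¹)⁻¹ by group]
    exact S.normal.conj_mem q hq k⁻¹))⟩

theorem card_eq : Nat.card X = Nat.card Q * Nat.card K := S.compl.card_mul_card.symm

/-- The classes of `p`-regular elements are those of the complement. -/
theorem card_regClass : Nat.card (RegClass p X) = Nat.card (ConjClasses K) := by
  haveI := S.normal
  let r : K →* X ⧸ Q := (QuotientGroup.mk' Q).comp K.subtype
  let F : ConjClasses K → RegClass p X := fun c => ⟨ConjClasses.map K.subtype c, by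
    obtain ⟨k, rfl⟩ := ConjClasses.exists_rep c
    refine ⟨(k : X), rfl, fun h => S.cop ?_⟩
    rw [Subgroup.orderOf_coe] at h
    exact h.trans (orderOf_dvd_natCard k)⟩
  refine (Nat.card_congr (Equiv.ofBijective F ⟨?_, ?_⟩)).symm
  · intro a b h
    obtain ⟨k, rfl⟩ := ConjClasses.exists_rep a
    obtain ⟨k', rfl⟩ := ConjClasses.exists_rep b
    obtain ⟨c, hc⟩ := isConj_iff.1 (ConjClasses.mk_eq_mk_iff_isConj.1 (congrArg Subtype.val h))
    obtain ⟨d, hd⟩ := S.mk_bijective.2 (QuotientGroup.mk' Q c)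
    refine ConjClasses.mk_eq_mk_iff_isConj.2 (isConj_iff.2 ⟨d, S.mk_bijective.1 ?_⟩)
    show r (d * k * d⁻¹) = r k'
    rw [map_mul, map_mul, map_inv, show r d = QuotientGroup.mk' Q c from hd]
    show QuotientGroup.mk' Q c * QuotientGroup.mk' Q (k : X) * (QuotientGroup.mk' Q c)⁻¹ = QuotientGroup.mk' Q (k' : X)
    rw [← map_inv, ← map_mul, ← map_mul]
    exact congrArg _ hc
  · rintro ⟨c, g, rfl, hg⟩
    have hsup : Q ⊔ K = ⊤ := S.compl.sup_eq_top
    obtain ⟨x, -, hx⟩ := Cfsg.Lib.Coprime.exists_conj_le_of_coprime (N := Q) (H := K) (L := zpowers g)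
      (le_top.trans (top_le_iff.2 (Subgroup.normalizer_eq_top_iff.2 S.normal))) S.coprime
      (Or.inr (Group.isSolvable_of_comm fun a b => by
        obtain ⟨i, hi⟩ := mem_zpowers_iff.1 a.2
        obtain ⟨j, hj⟩ := mem_zpowers_iff.1 b.2
        exact Subtype.ext (by rw [Subgroup.coe_mul, Subgroup.coe_mul, ← hi, ← hj, ← zpow_add, ← zpow_add, add_comm])))
      (by rw [hsup]; exact le_top) (by
        obtain ⟨m, hm⟩ := IsPGroup.iff_card.1 S.isPGroup
        rw [hm, Nat.card_zpowers]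
        exact Nat.Coprime.pow_left _ (hp.out.coprime_iff_not_dvd.2 hg))
    have hgK := Cfsg.Lib.Coprime.mem_conjMap.1 (hx (mem_zpowers g))
    exact ⟨ConjClasses.mk ⟨_, hgK⟩, Subtype.ext (ConjClasses.mk_eq_mk_iff_isConj.2
      (isConj_iff.2 ⟨x, by show x * (x⁻¹ * g * x) * x⁻¹ = g; group⟩))⟩

/-- It embeds in the affine group. -/
theorem embeds (hQ : Nat.card Q = p) :
    ∃ f : X →* ↥(Cfsg.affineGroup (ZMod p)), Function.Injective f := by
  haveI := S.normal
  haveI : Fintype Q := Fintype.ofFinite Q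
  obtain ⟨v, hv, hv1⟩ := Q.bot_or_exists_ne_one.resolve_left S.ne
  have hov : orderOf (⟨v, hv⟩ : Q) = p := by
    rcases (Nat.dvd_prime hp.out).1 (hQ ▸ orderOf_dvd_natCard (⟨v, hv⟩ : Q)) with h | h
    · exact absurd (congrArg Subtype.val (orderOf_eq_one_iff.1 h)) hv1
    · exact h
  have hov' : orderOf v = p := by rw [← hov, Subgroup.orderOf_mk]
  have hgen : ∀ w ∈ Q, ∃ c : ZMod p, v ^ c.val = w := by
    intro w hw
    have hz : zpowers v = Q := eq_of_le_of_card_ge (zpowers_le.2 hv) (by rw [Nat.card_zpowers, hov', hQ])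
    rw [← hz, ← mem_powers_iff_mem_zpowers, Submonoid.mem_powers_iff] at hw
    obtain ⟨i, rfl⟩ := hw
    exact ⟨(i : ZMod p), by rw [ZMod.val_natCast, ← hov', pow_mod_orderOf]⟩
  have hinjv : ∀ c d : ZMod p, v ^ c.val = v ^ d.val → c = d := fun c d h =>
    ZMod.val_injective p (pow_injOn_Iio_orderOf (by simp [hov', ZMod.val_lt]) (by simp [hov', ZMod.val_lt]) h)
  have hmodp : ∀ k : ℕ, v ^ (k % p) = v ^ k := fun k => by conv_rhs => rw [← pow_mod_orderOf, hov']
  have hmul : ∀ c d : ZMod p, v ^ (c + d).val = v ^ c.val * v ^ d.val := fun c d => by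
    rw [ZMod.val_add, ← pow_add, hmodp]
  have hmul' : ∀ (c : ZMod p) (n : ℕ), v ^ ((n : ZMod p) * c).val = (v ^ c.val) ^ n := fun c n => by
    induction n with
    | zero => simp
    | succ n ih => rw [Nat.cast_succ, add_mul, one_mul, hmul, ih, pow_succ]
  choose e he using hgen
  let dq : X → X := fun x => (S.decomp x).choose
  have hdq : ∀ x, dq x ∈ Q := fun x => (S.decomp x).choose_spec.1
  let dk : X → X := fun x => (S.decomp x).choose_spec.2.choose
  have hdk : ∀ x, dk x ∈ K := fun x => (S.decomp x).choose_spec.2.choose_spec.1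
  have hdec : ∀ x, dq x * dk x = x := fun x => (S.decomp x).choose_spec.2.choose_spec.2
  have hprod : ∀ x y, dq (x * y) = dq x * (dk x * dq y * (dk x)⁻¹) ∧ dk (x * y) = dk x * dk y := by
    intro x y
    have hm : dq x * (dk x * dq y * (dk x)⁻¹) ∈ Q := mul_mem (hdq x) (S.normal.conj_mem _ (hdq y) _)
    have he' : dq x * (dk x * dq y * (dk x)⁻¹) * (dk x * dk y) = dq (x * y) * dk (x * y) := by
      rw [hdec, show dq x * (dk x * dq y * (dk x)⁻¹) * (dk x * dk y) = dq x * dk x * (dq y * dk y) by group, hdec, hdec]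
    have h2 : dk x * dk y = dk (x * y) := S.eq_of_mk (mul_mem (hdk x) (hdk y)) (hdk _) (by
      have h3 : (dk x * dk y)⁻¹ * dk (x * y) = (dk x * dk y)⁻¹ * ((dq (x * y))⁻¹ * (dq x * (dk x * dq y * (dk x)⁻¹))) *
          ((dk x * dk y)⁻¹)⁻¹ := by
        rw [show dk (x * y) = (dq (x * y))⁻¹ * (dq (x * y) * dk (x * y)) by group, ← he']
        group
      rw [h3]
      exact S.normal.conj_mem _ (mul_mem (inv_mem (hdq _)) hm) _)
    rw [← h2] at he'
    exact ⟨(mul_right_cancel he').symm, h2.symm⟩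
  have hconjmem : ∀ x w, w ∈ Q → dk x * w * (dk x)⁻¹ ∈ Q := fun x w hw => S.normal.conj_mem w hw _
  let a : X → ZMod p := fun x => e _ (hconjmem x v hv)
  let b : X → ZMod p := fun x => e _ (hdq x)
  have hconj : ∀ x (c : ZMod p), dk x * v ^ c.val * (dk x)⁻¹ = v ^ (a x * c).val := by
    intro x c
    conv_rhs => rw [mul_comm, ← ZMod.natCast_zmod_val c, hmul', he]
    rw [conj_pow]
  have ha0 : ∀ x, a x ≠ 0 := fun x h => hv1 (by
    have := he _ (hconjmem x v hv)
    rw [show e _ (hconjmem x v hv) = 0 from h, ZMod.val_zero, pow_zero] at this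
    exact conj_eq_one_iff.1 this.symm)
  have hab : ∀ x y, a (x * y) = a x * a y ∧ b (x * y) = b x + a x * b y := by
    intro x y
    obtain ⟨h1, h2⟩ := hprod x y
    refine ⟨hinjv _ _ ?_, hinjv _ _ ?_⟩
    · rw [← hconj, he, he, h2]; group
    · rw [hmul, ← hconj, he, he, he, h1]
  let σ : X → Equiv.Perm (ZMod p) := fun x => (Equiv.mulLeft₀ (a x) (ha0 x)).trans (Equiv.addRight (b x))
  have hσ : ∀ x c, σ x c = a x * c + b x := fun x c => rfl
  let Φ : X →* Equiv.Perm (ZMod p) := MonoidHom.mk' σ fun x y => Equiv.ext fun c => by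
    rw [Equiv.Perm.mul_apply, hσ, hσ, hσ, (hab x y).1, (hab x y).2]; ring
  have hrange : ∀ x, Φ x ∈ Cfsg.affineGroup (ZMod p) := fun x => ⟨Units.mk0 _ (ha0 x), b x, hσ x⟩
  refine ⟨Φ.codRestrict _ hrange, (MonoidHom.ker_eq_bot_iff _).1 ?_⟩
  · rw [Subgroup.eq_bot_iff_forall]
    intro x hx
    have hx' : ∀ c, a x * c + b x = c := fun c => by
      rw [← hσ]; exact Equiv.congr_fun (congrArg Subtype.val hx) c
    have hb0 : b x = 0 := by simpa using hx' 0
    have ha1 : a x = 1 := by simpa [hb0] using hx' 1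
    have hq1 : dq x = 1 := by
      have := he _ (hdq x)
      rw [show e _ (hdq x) = 0 from hb0, ZMod.val_zero, pow_zero] at this
      exact this.symm
    have hk1 : dk x = 1 := by
      have hc : dk x ∈ centralizer (Q : Set X) := by
        rw [Subgroup.mem_centralizer_iff]
        intro w hw
        have := hconj x (e w hw)
        rw [ha1, one_mul, he] at this
        conv_lhs => rw [← this]
        group
      exact S.eq_of_mk (one_mem K) (hdk x) (by simpa using S.self hc) |>.symm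
    rw [← hdec x, hq1, hk1, one_mul]

/-- The class number of the complement. -/
theorem bound (hmin : ∀ V : Subgroup X, V.Normal → V ≤ Q → V = ⊥ ∨ V = Q) {x y : X} (hx : x ∈ Q) (hy : y ∈ Q)
    (hx1 : x ≠ 1) (hy1 : y ≠ 1) (hxy : ¬ IsConj x y)
    (hthree : ∀ a b c : X, a ∈ Q → b ∈ Q → c ∈ Q → a ≠ 1 → b ≠ 1 → c ≠ 1 →
      IsConj a b ∨ IsConj a c ∨ IsConj b c) :
    p ≤ 2 * Nat.card (ConjClasses K) ∨
      (Nat.card Q = p ∧ 2 * Nat.card K = p - 1 ∧ Nat.card (ConjClasses K) = Nat.card K) := by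
  haveI := S.normal
  haveI : Nontrivial Q := (Subgroup.nontrivial_iff_ne_bot Q).2 S.ne
  letI : CommGroup Q := { mul_comm := fun a b => Subtype.ext (S.comm a a.2 b b.2) }
  let act : K →* MulAut Q := (MulAut.conjNormal (H := Q)).comp K.subtype
  have hval : ∀ (a : K) (v : Q), ((act a v : Q) : X) = (a : X) * (v : X) * (a : X)⁻¹ :=
    fun a v => MulAut.conjNormal_apply _ _
  have hQK : ∀ (u : Q) (g : X), ∃ k : K, g * (u : X) * g⁻¹ = (k : X) * (u : X) * (k : X)⁻¹ := by
    intro u g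
    obtain ⟨q, hq, k, hk, rfl⟩ := S.decomp g
    refine ⟨⟨k, hk⟩, ?_⟩
    have hm : k * u * k⁻¹ ∈ Q := S.normal.conj_mem _ u.2 k
    rw [show q * k * (u : X) * (q * k)⁻¹ = q * (k * u * k⁻¹) * q⁻¹ by group, S.comm q hq _ hm]
    show k * (u : X) * k⁻¹ * q * q⁻¹ = k * u * k⁻¹
    group
  have horb : ∀ u z : Q, IsConj (u : X) (z : X) → ∃ k, act k u = z := by
    intro u z h
    obtain ⟨g, hg⟩ := isConj_iff.1 h
    obtain ⟨k, hk⟩ := hQK u g
    exact ⟨k, Subtype.ext (by rw [hval, ← hk, hg])⟩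
  refine @action_bound p hp K _ _ Q _ _ _
    (AddCommGroup.zmodModule (n := p) fun v => Additive.toMul.injective (Subtype.ext (by
      simpa using S.exp _ (Additive.toMul v).2))) act ?_ S.cop ⟨x, hx⟩ ⟨y, hy⟩ (fun h => hx1 (congrArg Subtype.val h))
      (fun h => hy1 (congrArg Subtype.val h)) ?_ ?_ ?_
  · intro a b h
    refine Subtype.ext (S.eq_of_mk a.2 b.2 (S.self ?_))
    rw [Subgroup.mem_centralizer_iff]
    intro v hv
    have h' := congrArg (fun f : MulAut Q => ((f ⟨v, hv⟩ : Q) : X)) h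
    simp only [hval] at h'
    calc v * ((a : X)⁻¹ * b) = (a : X)⁻¹ * ((a : X) * v * (a : X)⁻¹) * b := by group
      _ = (a : X)⁻¹ * ((b : X) * v * (b : X)⁻¹) * b := by rw [h']
      _ = (a : X)⁻¹ * b * v := by group
  · intro k hk
    exact hxy (isConj_iff.2 ⟨(k : X), (hval k ⟨x, hx⟩).symm.trans (congrArg Subtype.val hk)⟩)
  · intro u hu
    rcases hthree x y u hx hy u.2 hx1 hy1 (fun e => hu (Subtype.ext e)) with h | h | h
    · exact absurd h hxy
    · exact Or.inl (horb ⟨x, hx⟩ u h)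
    · exact Or.inr (horb ⟨y, hy⟩ u h)
  · intro V hV
    have hVn : (V.map Q.subtype).Normal := ⟨fun g hg z => by
      obtain ⟨u, hu, rfl⟩ := hg
      obtain ⟨k, hk⟩ := hQK u z
      exact ⟨act k u, hV k u hu, (hval k u).trans hk.symm⟩⟩
    rcases hmin _ hVn (Subgroup.map_subtype_le V) with h | h
    · exact Or.inl ((Subgroup.map_eq_bot_iff_of_injective V Q.subtype_injective).1 h)
    · right
      refine Subgroup.map_injective Q.subtype_injective (h.trans ?_)
      rw [← MonoidHom.range_eq_map, Subgroup.range_subtype]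

end TwoSetting

variable {p : ℕ} [hp : Fact p.Prime] {G : Type u} [Group G] [Finite G]

/-- At most two classes of nontrivial `p`-elements. -/
def Three (p : ℕ) (G : Type u) [Group G] : Prop :=
  ∀ x y z : G, x ≠ 1 → y ≠ 1 → z ≠ 1 → (∃ k, orderOf x = p ^ k) → (∃ k, orderOf y = p ^ k) →
    (∃ k, orderOf z = p ^ k) → IsConj x y ∨ IsConj x z ∨ IsConj y z

/-- A `p`-element of a quotient lifts to one. -/
theorem exists_pel_lift (N : Subgroup G) [N.Normal] {y : G ⧸ N} (hy : ∃ k, orderOf y = p ^ k) :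
    ∃ g : G, QuotientGroup.mk' N g = y ∧ ∃ k, orderOf g = p ^ k := by
  obtain ⟨g, rfl⟩ := QuotientGroup.mk'_surjective N y
  obtain ⟨k, hk⟩ := hy
  set a := (orderOf g).factorization p
  set m := orderOf g / p ^ a
  have hcop : m.Coprime (orderOf (QuotientGroup.mk' N g)) := by
    rw [hk]
    exact ((Nat.coprime_ordCompl hp.out (orderOf_pos g).ne').symm).pow_right k
  obtain ⟨j, hj⟩ := exists_pow_eq_self_of_coprime hcop
  refine ⟨(g ^ m) ^ j, by rw [map_pow, map_pow]; exact hj, ?_⟩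
  have hd : orderOf ((g ^ m) ^ j) ∣ p ^ a := orderOf_dvd_of_pow_eq_one (by
    rw [← pow_mul, ← pow_mul, show m * (j * p ^ a) = (p ^ a * m) * j by ring, pow_mul,
      Nat.ordProj_mul_ordCompl_eq_self, pow_orderOf_eq_one, one_pow])
  obtain ⟨i, -, hi⟩ := (Nat.dvd_prime_pow hp.out).1 hd
  exact ⟨i, hi⟩

theorem Three.quotient (h : Three p G) (N : Subgroup G) [N.Normal] : Three p (G ⧸ N) := by
  intro x y z hx hy hz px py pz
  obtain ⟨a, rfl, pa⟩ := exists_pel_lift (p := p) N px
  obtain ⟨b, rfl, pb⟩ := exists_pel_lift (p := p) N py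
  obtain ⟨c, rfl, pc⟩ := exists_pel_lift (p := p) N pz
  have ne : ∀ g : G, QuotientGroup.mk' N g ≠ 1 → g ≠ 1 := fun g hg e => hg (by rw [e, map_one])
  rcases h a b c (ne a hx) (ne b hy) (ne c hz) pa pb pc with h' | h' | h'
  · exact Or.inl (MonoidHom.map_isConj _ h')
  · exact Or.inr (Or.inl (MonoidHom.map_isConj _ h'))
  · exact Or.inr (Or.inr (MonoidHom.map_isConj _ h'))

/-- The regular classes map onto those of a quotient. -/
theorem card_regClass_le (N : Subgroup G) [N.Normal] :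
    Nat.card (RegClass p (G ⧸ N)) ≤ Nat.card (RegClass p G) := by
  refine Nat.card_le_card_of_surjective (fun c : RegClass p G => (⟨ConjClasses.map (QuotientGroup.mk' N) c.1, by
    obtain ⟨g, hg, hr⟩ := c.2
    exact ⟨QuotientGroup.mk' N g, by rw [← hg]; rfl, CoprimeTransitive.regular_map N hr⟩⟩ : RegClass p (G ⧸ N))) ?_
  rintro ⟨c, y, rfl, hy⟩
  obtain ⟨g, hg, hr⟩ := CoprimeTransitive.exists_regular_lift N hy
  exact ⟨⟨ConjClasses.mk g, g, rfl, hr⟩, Subtype.ext (congrArg ConjClasses.mk hg)⟩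

/-- One class of nontrivial `p`-elements gives more. -/
theorem of_one_class (hsolv : IsPSolvable p G) (hdiv : p ∣ Nat.card G)
    (hc : ∀ x y : G, x ≠ 1 → y ≠ 1 → (∃ k : ℕ, orderOf x = p ^ k) → (∃ k : ℕ, orderOf y = p ^ k) → IsConj x y) :
    p - 1 < 2 * Nat.card (RegClass p G) := by
  have hp2 := hp.out.two_le
  rcases Cfsg.Agent.S4878.result p hsolv hdiv hc with h | ⟨h, -⟩ | ⟨rfl, h, -⟩
  · have h' : p ≤ Nat.card (RegClass p G) := h
    omega
  · have h' : Nat.card (RegClass p G) = p - 1 := h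
    omega
  · have h' : Nat.card (RegClass 11 G) = 9 := h
    omega

/-- The main bound. -/
theorem main (hsolv : IsPSolvable p G) (h3 : Three p G) {x₀ y₀ : G} (hx₀ : x₀ ≠ 1) (hy₀ : y₀ ≠ 1)
    (hpx : ∃ k, orderOf x₀ = p ^ k) (hpy : ∃ k, orderOf y₀ = p ^ k) (hxy₀ : ¬ IsConj x₀ y₀) :
    p - 1 < 2 * Nat.card (RegClass p G) ∨
      (2 * Nat.card (RegClass p G) = p - 1 ∧ p ≠ 2 ∧ 2 * Nat.card G = p * (p - 1) ∧
        ∃ f : G →* ↥(Cfsg.affineGroup (ZMod p)), Function.Injective f) := by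
  classical
  have hp2 := hp.out.two_le
  haveI : (pPrimeCore p G).Normal := Cfsg.Lib.Components.pPrimeCore_normal' p
  set N := pPrimeCore p G with hNdef
  have hN : ¬ p ∣ Nat.card N :=
    hp.out.coprime_iff_not_dvd.1 (Cfsg.Lib.Components.coprime_card_pPrimeCore p).symm
  have hdiv : p ∣ Nat.card G := by
    obtain ⟨k, hk⟩ := hpx
    rcases k with _ | k
    · exact absurd (orderOf_eq_one_iff.1 (by rw [hk, pow_zero])) hx₀
    · exact ((dvd_pow_self p k.succ_ne_zero).trans hk.symm.dvd).trans (orderOf_dvd_natCard x₀)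
  let X := G ⧸ N
  have hsolX : IsPSolvable p X := Cfsg.Lib.GaschutzYen.isPSolvable_quotient _ hsolv
  have hpX : p ∣ Nat.card X := by
    rw [Subgroup.card_eq_card_quotient_mul_card_subgroup N] at hdiv
    exact (hp.out.dvd_mul.1 hdiv).resolve_right hN
  have hle : Nat.card (RegClass p X) ≤ Nat.card (RegClass p G) := card_regClass_le N
  by_cases hone : ∀ x y : X, x ≠ 1 → y ≠ 1 → (∃ k : ℕ, orderOf x = p ^ k) → (∃ k : ℕ, orderOf y = p ^ k) → IsConj x y
  · have := of_one_class hsolX hpX hone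
    omega
  push Not at hone
  obtain ⟨x, y, hx, hy, px, py, hxy⟩ := hone
  have hX3 : Three p X := h3.quotient N
  haveI : Nontrivial X := ⟨⟨x, 1, hx⟩⟩
  set Q := pCore p X with hQdef
  haveI hQn : Q.Normal := Cfsg.Lib.Components.pCore_normal' p
  have hQne : Q ≠ ⊥ :=
    (Cfsg.Lib.GaschutzYen.exists_core_ne_bot hsolX).resolve_right fun h => h Cfsg.Lib.Components.pPrimeCore_quotient_eq_bot
  have hQp : IsPGroup p Q := Cfsg.Lib.Components.isPGroup_pCore p
  by_cases hV : ∃ V : Subgroup X, V.Normal ∧ IsPGroup p V ∧ V ≠ ⊥ ∧ p ∣ V.index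
  · obtain ⟨V, hVn, hVp, hVne, hVi⟩ := hV
    haveI := hVn
    obtain ⟨v, hvV, hv1⟩ := V.bot_or_exists_ne_one.resolve_left hVne
    have hone' : ∀ a b : X ⧸ V, a ≠ 1 → b ≠ 1 → (∃ k : ℕ, orderOf a = p ^ k) → (∃ k : ℕ, orderOf b = p ^ k) →
        IsConj a b := by
      intro a b ha hb pa pb
      obtain ⟨a, rfl, pa'⟩ := exists_pel_lift (p := p) V pa
      obtain ⟨b, rfl, pb'⟩ := exists_pel_lift (p := p) V pb
      have hout : ∀ g : X, QuotientGroup.mk' V g ≠ 1 → ¬ IsConj g v := fun g hg h => by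
        obtain ⟨c, hc⟩ := isConj_iff.1 h.symm
        exact hg ((QuotientGroup.eq_one_iff g).2 (hc ▸ hVn.conj_mem v hvV c))
      rcases hX3 a b v (fun e => ha (by rw [e, map_one])) (fun e => hb (by rw [e, map_one])) hv1 pa' pb'
        (Cfsg.Lib.OneClass.pel_of_mem hVp hvV) with h | h | h
      · exact MonoidHom.map_isConj _ h
      · exact absurd h (hout a ha)
      · exact absurd h (hout b hb)
    have := of_one_class (Cfsg.Lib.GaschutzYen.isPSolvable_quotient V hsolX) hVi hone'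
    have := card_regClass_le (p := p) V
    omega
  push Not at hV
  have hmax : ∀ V : Subgroup X, V.Normal → V ≤ Q → V = ⊥ ∨ V = Q := by
    intro V hVn hVQ
    by_cases hVb : V = ⊥
    · exact Or.inl hVb
    right
    have hi := hV V hVn (hQp.to_le hVQ) hVb
    refine eq_of_le_of_card_ge hVQ (Nat.le_of_dvd Nat.card_pos ?_)
    obtain ⟨m, hm⟩ := IsPGroup.iff_card.1 hQp
    have hd : Nat.card Q ∣ Nat.card V * V.index := by rw [V.card_mul_index]; exact Subgroup.card_subgroup_dvd_card Q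
    rw [hm] at hd ⊢
    exact (Nat.Coprime.pow_left m (hp.out.coprime_iff_not_dvd.2 hi)).dvd_of_dvd_mul_right hd
  have hidx : ¬ p ∣ Q.index := hV Q hQn hQp hQne
  have hcomm : ∀ a ∈ Q, ∀ b ∈ Q, a * b = b * a := by
    haveI : Nontrivial Q := (Subgroup.nontrivial_iff_ne_bot Q).2 hQne
    haveI := hQp.center_nontrivial
    have hZn : (Q ⊓ centralizer (Q : Set X)).Normal := inferInstance
    rcases hmax _ hZn inf_le_left with h | h
    · exfalso
      obtain ⟨⟨z, hz⟩, hz1⟩ := exists_ne (1 : center Q)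
      have hzA : (z : X) ∈ Q ⊓ centralizer (Q : Set X) := ⟨z.2, Subgroup.mem_centralizer_iff.2 fun w hw =>
        congrArg Subtype.val (Subgroup.mem_center_iff.1 hz ⟨w, hw⟩)⟩
      rw [h, Subgroup.mem_bot] at hzA
      exact hz1 (Subtype.ext (Subtype.ext hzA))
    · intro a ha b hb
      have hb' : b ∈ Q ⊓ centralizer (Q : Set X) := h.symm ▸ hb
      exact Subgroup.mem_centralizer_iff.1 hb'.2 a ha
  have hexp : ∀ a ∈ Q, a ^ p = 1 := by
    let Ω : Subgroup X :=
      { carrier := {a | a ∈ Q ∧ a ^ p = 1}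
        one_mem' := ⟨one_mem Q, one_pow p⟩
        mul_mem' := fun {a b} ha hb => ⟨mul_mem ha.1 hb.1, by
          rw [(show Commute a b from hcomm a ha.1 b hb.1).mul_pow, ha.2, hb.2, mul_one]⟩
        inv_mem' := fun {a} ha => ⟨inv_mem ha.1, by rw [inv_pow, ha.2, inv_one]⟩ }
    have hΩn : Ω.Normal := ⟨fun a ha g => ⟨hQn.conj_mem a ha.1 g, by rw [conj_pow, ha.2, mul_one, mul_inv_cancel]⟩⟩
    rcases hmax Ω hΩn (fun a ha => ha.1) with h | h
    · exfalso
      haveI : Nontrivial Q := (Subgroup.nontrivial_iff_ne_bot Q).2 hQne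
      obtain ⟨m, hm0, hm⟩ := hQp.nontrivial_iff_card.1 inferInstance
      obtain ⟨z, hz⟩ := exists_prime_orderOf_dvd_card' (G := Q) p (hm ▸ dvd_pow_self p hm0.ne')
      have hzΩ : (z : X) ∈ Ω := ⟨z.2, by rw [← SubmonoidClass.coe_pow, ← hz, pow_orderOf_eq_one]; rfl⟩
      rw [h, Subgroup.mem_bot] at hzΩ
      rw [show z = 1 from Subtype.ext hzΩ, orderOf_one] at hz
      exact hp.out.one_lt.ne hz
    · exact fun a ha => (h.symm ▸ ha : a ∈ Ω).2
  have hcop : (Nat.card Q).Coprime Q.index := by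
    obtain ⟨m, hm⟩ := IsPGroup.iff_card.1 hQp
    rw [hm]
    exact Nat.Coprime.pow_left _ (hp.out.coprime_iff_not_dvd.2 hidx)
  obtain ⟨K, hK⟩ := Subgroup.exists_right_complement'_of_coprime hcop
  have S : TwoSetting p Q K := ⟨hQn, hcomm, hexp, fun h => hidx (by rw [hK.symm.index_eq_card]; exact h),
    Cfsg.Lib.PairSylow.centralizer_pCore_quotient hsolv, hK, hQne⟩
  have hmem : ∀ a : X, (∃ k, orderOf a = p ^ k) → a ∈ Q := by
    rintro a ⟨k, hk⟩
    have hd : orderOf (QuotientGroup.mk' Q a) ∣ p ^ k := hk ▸ orderOf_map_dvd _ a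
    have hd' : orderOf (QuotientGroup.mk' Q a) ∣ Q.index := orderOf_dvd_natCard _
    exact (QuotientGroup.eq_one_iff a).1 (orderOf_eq_one_iff.1 (Nat.eq_one_of_dvd_coprimes
      (Nat.Coprime.pow_left k (hp.out.coprime_iff_not_dvd.2 hidx)) hd hd'))
  have hreg := S.card_regClass
  rcases S.bound hmax (hmem x px) (hmem y py) hx hy hxy (fun a b c ha hb hc a1 b1 c1 =>
    hX3 a b c a1 b1 c1 (Cfsg.Lib.OneClass.pel_of_mem hQp ha) (Cfsg.Lib.OneClass.pel_of_mem hQp hb)
      (Cfsg.Lib.OneClass.pel_of_mem hQp hc)) with h | ⟨hQc, hKc, hk⟩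
  · left; omega
  by_cases hN1 : N = ⊥
  swap
  · have := ((CoprimeTransitive.card_regClass_quotient (p := p) N hN).2 hN1).1
    left
    change Nat.card (RegClass p X) + 1 ≤ _ at this
    omega
  right
  let e : X ≃* G := (QuotientGroup.quotientMulEquivOfEq hN1).trans QuotientGroup.quotientBot
  obtain ⟨f, hf⟩ := S.embeds hQc
  refine ⟨?_, ?_, ?_, f.comp e.symm.toMonoidHom, hf.comp e.symm.injective⟩
  · have hle' : Nat.card (RegClass p G) ≤ Nat.card (RegClass p X) := by
      refine Nat.card_le_card_of_surjective (fun c : RegClass p X => (⟨ConjClasses.map e.toMonoidHom c.1, by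
        obtain ⟨g, hg, hr⟩ := c.2
        exact ⟨e g, by rw [← hg]; rfl, by rwa [e.orderOf_eq]⟩⟩ : RegClass p G)) ?_
      rintro ⟨c, g, rfl, hg⟩
      exact ⟨⟨ConjClasses.mk (e.symm g), e.symm g, rfl, by rwa [e.symm.orderOf_eq]⟩,
        Subtype.ext (congrArg ConjClasses.mk (e.apply_symm_apply g))⟩
    omega
  · rintro rfl
    have := Nat.card_pos (α := K)
    omega
  · rw [← Nat.card_congr e.toEquiv, S.card_eq, hQc, ← hKc]
    ring

/-- The subgroup of index two of the affine group. -/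
theorem affine_count {f : G →* ↥(Cfsg.affineGroup (ZMod p))} (hf : Function.Injective f)
    (hcard : 2 * Nat.card G = p * (p - 1)) (hp2 : p ≠ 2) : 2 * Nat.card (RegClass p G) ≤ p - 1 := by
  classical
  let σ : G → ZMod p → ZMod p := fun g z => (f g : Equiv.Perm (ZMod p)) z
  have hσmul : ∀ g h z, σ (g * h) z = σ g (σ h z) := fun g h z => by simp [σ]
  let a : G → ZMod p := fun g => σ g 1 - σ g 0
  have haff : ∀ g z, σ g z = a g * z + σ g 0 := by
    intro g z
    obtain ⟨u, t, hut⟩ := (f g).2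
    show (f g : Equiv.Perm (ZMod p)) z = ((f g : Equiv.Perm (ZMod p)) 1 - (f g : Equiv.Perm (ZMod p)) 0) * z +
      (f g : Equiv.Perm (ZMod p)) 0
    rw [hut, hut, hut]; ring
  have hext : ∀ g h, a g = a h → σ g 0 = σ h 0 → g = h := fun g h e1 e2 =>
    hf (Subtype.ext (Equiv.ext fun z => show σ g z = σ h z by rw [haff g, haff h, e1, e2]))
  let A : G →* ZMod p :=
    { toFun := a
      map_one' := by simp [a, σ]
      map_mul' := fun g h => by
        show σ (g * h) 1 - σ (g * h) 0 = _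
        rw [hσmul, hσmul, haff g (σ h 1), haff g (σ h 0)]
        show _ = a g * (σ h 1 - σ h 0)
        ring }
  set T := A.toHomUnits.ker
  have hTmem : ∀ g, g ∈ T ↔ a g = 1 := fun g => by
    rw [MonoidHom.mem_ker, Units.ext_iff]; rfl
  have hT0 : ∀ g h, g ∈ T → h ∈ T → σ g 0 = σ h 0 → g = h := fun g h hg hh =>
    hext g h (((hTmem g).1 hg).trans ((hTmem h).1 hh).symm)
  have hTle : Nat.card T ≤ p := by
    refine (Nat.card_le_card_of_injective (fun t : T => σ t 0) fun s t h => Subtype.ext (hT0 _ _ s.2 t.2 h)).trans_eq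
      (Nat.card_zmod p)
  have hodd : (2 : ℕ).Coprime p := (Nat.coprime_primes Nat.prime_two hp.out).2 (Ne.symm hp2)
  have hpG : p ∣ Nat.card G := hodd.symm.dvd_of_dvd_mul_left (hcard ▸ dvd_mul_right p (p - 1))
  have hmul : Nat.card A.toHomUnits.range * Nat.card T = Nat.card G := by
    rw [← Subgroup.index_ker, Subgroup.index_mul_card]
  have hrange : Nat.card A.toHomUnits.range ∣ p - 1 := by
    rw [← ZMod.card_units p, ← Nat.card_eq_fintype_card]
    exact Subgroup.card_subgroup_dvd_card _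
  have hpr : ¬ p ∣ Nat.card A.toHomUnits.range := fun h => by
    have := Nat.le_of_dvd (by have := hp.out.two_le; omega) (h.trans hrange)
    have := hp.out.two_le
    omega
  have hTp : Nat.card T = p := le_antisymm hTle
    (Nat.le_of_dvd Nat.card_pos ((hp.out.dvd_mul.1 (hmul ▸ hpG)).resolve_left hpr))
  rw [hTp] at hmul
  have hr2 : 2 * Nat.card A.toHomUnits.range = p - 1 := Nat.eq_of_mul_eq_mul_right hp.out.pos (by
    rw [mul_assoc, hmul, hcard, mul_comm])
  rw [← hr2]
  refine Nat.mul_le_mul_left 2 (Nat.card_le_card_of_injective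
    (fun c : RegClass p G => A.toHomUnits.rangeRestrict c.2.choose) fun c d h => ?_)
  obtain ⟨hc, hcr⟩ := c.2.choose_spec
  obtain ⟨hd, hdr⟩ := d.2.choose_spec
  set g := c.2.choose
  set g' := d.2.choose
  have hA : a g = a g' := congrArg Units.val (congrArg Subtype.val h)
  refine Subtype.ext ?_
  rw [← hc, ← hd]
  by_cases h1 : a g = 1
  · have hone : ∀ z : G, z ∈ T → ¬ p ∣ orderOf z → z = 1 := fun z hz hr => by
      have hd' : orderOf z ∣ p := by
        rw [← hTp, ← Subgroup.orderOf_mk (a := z) (ha := hz)]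
        exact orderOf_dvd_natCard _
      rcases (Nat.dvd_prime hp.out).1 hd' with h' | h'
      · exact orderOf_eq_one_iff.1 h'
      · exact absurd h'.symm.dvd hr
    rw [hone g ((hTmem g).2 h1) hcr, hone g' ((hTmem g').2 (hA ▸ h1)) hdr]
  · have hsurj : Function.Surjective (fun t : T => σ t 0) :=
      ((Nat.bijective_iff_injective_and_card _).2 ⟨fun s t h' => Subtype.ext (hT0 _ _ s.2 t.2 h'),
        hTp.trans (Nat.card_zmod p).symm⟩).2
    have h1' : (1 : ZMod p) - a g ≠ 0 := sub_ne_zero.2 (Ne.symm h1)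
    obtain ⟨t, ht⟩ := hsurj ((σ g' 0 - σ g 0) / (1 - a g))
    have ht1 : a (t : G) = 1 := (hTmem _).1 t.2
    have hinv : ∀ z : G, a z * a z⁻¹ = 1 := fun z => by
      show A z * A z⁻¹ = 1
      rw [← map_mul, mul_inv_cancel, map_one]
    refine ConjClasses.mk_eq_mk_iff_isConj.2 (isConj_iff.2 ⟨(t : G), ?_⟩)
    rw [mul_inv_eq_iff_eq_mul]
    refine hext _ _ ?_ ?_
    · show A ((t : G) * g) = A (g' * t)
      rw [map_mul, map_mul]
      show a (t : G) * a g = a g' * a (t : G)
      rw [ht1, hA, one_mul, mul_one]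
    · rw [hσmul, hσmul, haff (t : G) (σ g 0), haff g' (σ t 0), ht1, ← hA, show σ (t : G) 0 = _ from ht]
      field_simp
      ring

end Cfsg.Lib.Blocks.ThreeClasses
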