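import Cfsg.Agent.Blocks.ThreeClasses.Orbits

/-!
# Normal abelian subgroups when there are two orbits

The algebra of a normal abelian subgroup has no nilpotents; either it is a field, or it splits the space into
two halves on each of which half the group is transitive and then `p ≤ 2 k`.
-/

set_option autoImplicit false
set_option linter.unusedSectionVars false
set_option linter.style.haveILetI false

namespace Cfsg.Lib.Blocks.ThreeClasses

open Polynomial Module Subgroup
open Cfsg.Lib.Blocks.CoprimeTransitive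

universe u v

variable {p : ℕ} [hp : Fact p.Prime] {V : Type v} [AddCommGroup V] [Module (ZMod p) V] [Finite V]
  {H : Type u} [Group H] [Finite H] {ρ : H →* Module.End (ZMod p) V}

/-- An element of prime order `s ≠ p` is conjugate to at most as many of its powers as the degree of
its minimal polynomial. -/
theorem conj_pow_count_minpoly (hinj : Function.Injective ρ) {x : H} {s : ℕ} (hs : s.Prime) (hx : orderOf x = s)
    (hsp : s ≠ p) :
    Nat.card {i : Fin s // IsConj x (x ^ (i : ℕ))} ≤ (minpoly (ZMod p) (ρ x)).natDegree := by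
  classical
  haveI := Fact.mk hs
  have hx1 : x ≠ 1 := fun h => hs.one_lt.ne (by rw [← hx, h, orderOf_one])
  haveI : Nontrivial (Module.End (ZMod p) V) := ⟨ρ x, 1, fun h => hx1 (hinj (by rw [h, map_one]))⟩
  set T := ρ x with hT
  have hint : IsIntegral (ZMod p) T := Algebra.IsIntegral.isIntegral T
  set m := minpoly (ZMod p) T with hm
  have hTs : T ^ s = 1 := by rw [hT, ← map_pow, ← hx, pow_orderOf_eq_one, map_one]
  have hdvd : m ∣ X ^ s - 1 := minpoly.dvd _ _ (by rw [map_sub, map_pow, aeval_X, map_one, hTs, sub_self])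
  have hsK : ((s : ℕ) : ZMod p) ≠ 0 := fun h => hsp (((Nat.prime_dvd_prime_iff_eq hp.out hs).1
    ((ZMod.natCast_eq_zero_iff _ _).1 h)).symm)
  have hsep : m.Separable := by
    refine Separable.of_dvd ?_ hdvd
    have := separable_X_pow_sub_C (1 : ZMod p) hsK one_ne_zero
    rwa [map_one] at this
  set L := AlgebraicClosure (ZMod p)
  set R := (m.aroots L).toFinset
  have hmem : ∀ z : L, z ∈ R ↔ aeval z m = 0 := fun z => by
    rw [Multiset.mem_toFinset, mem_aroots]
    exact and_iff_right (minpoly.ne_zero hint)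
  -- a root other than one
  obtain ⟨ζ, hζ, hζ1⟩ : ∃ ζ ∈ R, ζ ≠ 1 := by
    by_contra hno
    push Not at hno
    have hcard : R.card = m.natDegree := by
      rw [Multiset.toFinset_card_of_nodup (Polynomial.nodup_roots (hsep.map)),
        ← (IsAlgClosed.splits (m.map (algebraMap (ZMod p) L))).natDegree_eq_card_roots, natDegree_map]
    have hR : R.card ≤ 1 := Finset.card_le_one.2 fun a ha b hb => by rw [hno a ha, hno b hb]
    have hdeg : m.natDegree = 1 := le_antisymm (hcard ▸ hR) (minpoly.natDegree_pos hint)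
    have heq : m = X + C (m.coeff 0) := (minpoly.monic hint).eq_X_add_C hdeg
    have h1 : aeval (1 : L) m = 0 := by
      obtain ⟨ζ, hζ⟩ := Finset.card_pos.1 (by rw [hcard]; omega : 0 < R.card)
      exact (hmem 1).1 (hno ζ hζ ▸ hζ)
    rw [heq, map_add, aeval_X, aeval_C] at h1
    have hc : m.coeff 0 = -1 := (algebraMap (ZMod p) L).injective (by
      rw [map_neg, map_one]; exact eq_neg_of_add_eq_zero_right h1)
    have h2 : aeval T m = 0 := minpoly.aeval _ _
    rw [heq, map_add, aeval_X, aeval_C, hc, map_neg, map_one, add_neg_eq_zero] at h2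
    have : x = 1 := hinj (by rw [map_one]; exact h2)
    rw [this, orderOf_one] at hx
    exact hs.one_lt.ne hx
  have hζs : ζ ^ s = 1 := by
    have := aeval_eq_zero_of_dvd_aeval_eq_zero hdvd ((hmem ζ).1 hζ)
    rwa [map_sub, map_pow, aeval_X, map_one, sub_eq_zero] at this
  have hord : orderOf ζ = s := orderOf_eq_prime hζs hζ1
  have hroot : ∀ i : Fin s, IsConj x (x ^ (i : ℕ)) → ζ ^ (i : ℕ) ∈ R := by
    intro i hi
    obtain ⟨e, he⟩ := isConj_iff.1 hi
    have hu : ρ e⁻¹ * ρ e = 1 := by rw [← map_mul, inv_mul_cancel, map_one]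
    have hu' : ρ e * ρ e⁻¹ = 1 := by rw [← map_mul, mul_inv_cancel, map_one]
    let u : (Module.End (ZMod p) V)ˣ := ⟨ρ e, ρ e⁻¹, hu', hu⟩
    have hTi : T ^ (i : ℕ) = (u : Module.End (ZMod p) V) * T * ↑u⁻¹ := by
      rw [hT, ← map_pow, ← he, map_mul, map_mul]
      rfl
    have h0 : aeval (T ^ (i : ℕ)) m = 0 := by
      rw [hTi]
      have : ∀ q : (ZMod p)[X], aeval ((u : Module.End (ZMod p) V) * T * ↑u⁻¹) q = u * aeval T q * ↑u⁻¹ := fun q => by
        induction q using Polynomial.induction_on' with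
        | add a b ha hb => rw [map_add, map_add, ha, hb, mul_add, add_mul]
        | monomial k a =>
          rw [aeval_monomial, aeval_monomial, Units.conj_pow]
          rw [← mul_assoc, ← mul_assoc, ← mul_assoc (u : Module.End (ZMod p) V),
            (Algebra.commutes a (u : Module.End (ZMod p) V)).symm]
      rw [this, hm, minpoly.aeval, mul_zero, zero_mul]
    have hd : m ∣ m.comp (X ^ (i : ℕ)) := minpoly.dvd _ _ (by rw [aeval_comp, map_pow, aeval_X, h0])
    have := aeval_eq_zero_of_dvd_aeval_eq_zero hd ((hmem ζ).1 hζ)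
    rw [aeval_comp, map_pow, aeval_X] at this
    exact (hmem _).2 this
  haveI := Fintype.ofFinite {i : Fin s // IsConj x (x ^ (i : ℕ))}
  have h1 : Nat.card {i : Fin s // IsConj x (x ^ (i : ℕ))} ≤ R.card := by
    rw [← Fintype.card_coe, ← Nat.card_eq_fintype_card (α := ↥R)]
    refine Nat.card_le_card_of_injective (fun i => (⟨ζ ^ (i.1 : ℕ), hroot i.1 i.2⟩ : ↥R)) fun i j h => ?_
    have h' : ζ ^ (i.1 : ℕ) = ζ ^ (j.1 : ℕ) := congrArg Subtype.val h
    exact Subtype.ext (Fin.ext (pow_injOn_Iio_orderOf (by simp [hord]) (by simp [hord]) h'))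
  refine h1.trans ((Multiset.toFinset_card_le _).trans ?_)
  rw [aroots_def]
  refine (card_roots' _).trans ?_
  rw [natDegree_map]

/-- No invariant subspaces. -/
def Irr (ρ : H →* Module.End (ZMod p) V) : Prop :=
  ∀ W : Submodule (ZMod p) V, (∀ h, ∀ x ∈ W, ρ h x ∈ W) → W = ⊥ ∨ W = ⊤

/-- The algebra of a set of elements. -/
abbrev algOf (ρ : H →* Module.End (ZMod p) V) (A : Subgroup H) : Subalgebra (ZMod p) (Module.End (ZMod p) V) :=
  Algebra.adjoin (ZMod p) (ρ '' (A : Set H))

theorem algOf_comm {A : Subgroup H} (hc : ∀ a ∈ A, ∀ b ∈ A, a * b = b * a) :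
    ∀ s ∈ algOf ρ A, ∀ t ∈ algOf ρ A, s * t = t * s := by
  haveI : IsMulCommutative (algOf ρ A) := Algebra.isMulCommutative_adjoin (ZMod p) (fun a ha b hb => by
    obtain ⟨x, hx, rfl⟩ := ha
    obtain ⟨y, hy, rfl⟩ := hb
    show ρ x * ρ y = ρ y * ρ x
    rw [← map_mul, ← map_mul, hc x hx y hy])
  exact fun s hs t ht => congrArg Subtype.val (IsMulCommutative.is_comm.comm (⟨s, hs⟩ : algOf ρ A) ⟨t, ht⟩)

/-- Coprimality makes the algebra of an abelian subgroup reduced. -/
theorem algOf_pow_eq (hcop : ¬ p ∣ Nat.card H) {A : Subgroup H} (hc : ∀ a ∈ A, ∀ b ∈ A, a * b = b * a) :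
    ∃ N : ℕ, 0 < N ∧ ∀ r ∈ algOf ρ A, r ^ (N + 1) = r := by
  rcases subsingleton_or_nontrivial V with hV | hV
  · exact ⟨1, one_pos, fun r _ => LinearMap.ext fun x => Subsingleton.elim _ _⟩
  haveI : CharP (Module.End (ZMod p) V) p :=
    charP_of_injective_algebraMap (RingHom.injective (algebraMap (ZMod p) _)) p
  set f := Nat.totient (Nat.card H)
  have hf : 0 < f := Nat.totient_pos.2 Nat.card_pos
  have hpf : 1 < p ^ f := Nat.one_lt_pow hf.ne' hp.out.one_lt
  refine ⟨p ^ f - 1, by omega, fun r hr => ?_⟩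
  rw [Nat.sub_add_cancel hpf.le]
  induction hr using Algebra.adjoin_induction with
  | mem x hx =>
    obtain ⟨a, -, rfl⟩ := hx
    rw [← map_pow, show a ^ p ^ f = a ^ 1 from ?_, pow_one]
    have hmod : p ^ f ≡ 1 [MOD Nat.card H] := Nat.ModEq.pow_totient (hp.out.coprime_iff_not_dvd.2 hcop)
    exact pow_eq_pow_iff_modEq.2 (hmod.of_dvd (orderOf_dvd_natCard a))
  | algebraMap c => rw [← map_pow, ZMod.pow_card_pow]
  | add a b ha hb iha ihb =>
    rw [add_pow_char_pow_of_commute p f (show Commute a b from algOf_comm hc a ha b hb), iha, ihb]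
  | mul a b ha hb iha ihb => rw [(show Commute a b from algOf_comm hc a ha b hb).mul_pow, iha, ihb]

theorem conj_mem_algOf (A : Subgroup H) [hA : A.Normal] (g : H) :
    ∀ s ∈ algOf ρ A, ρ g * s * ρ g⁻¹ ∈ algOf ρ A := by
  intro s hs
  induction hs using Algebra.adjoin_induction with
  | mem x hx =>
    obtain ⟨a, ha, rfl⟩ := hx
    rw [← map_mul, ← map_mul]
    exact Algebra.subset_adjoin ⟨_, hA.conj_mem a ha g, rfl⟩
  | algebraMap c =>
    rw [← Algebra.commutes, mul_assoc, ← map_mul ρ, mul_inv_cancel, map_one, mul_one]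
    exact (algOf ρ A).algebraMap_mem c
  | add a b _ _ iha ihb => rw [mul_add, add_mul]; exact add_mem iha ihb
  | mul a b _ _ iha ihb =>
    have : ρ g * (a * b) * ρ g⁻¹ = (ρ g * a * ρ g⁻¹) * (ρ g * b * ρ g⁻¹) := by
      simp only [mul_assoc]
      rw [← mul_assoc (ρ g⁻¹) (ρ g), ← map_mul, inv_mul_cancel, map_one, one_mul]
    rw [this]
    exact mul_mem iha ihb

/-- Without proper idempotents the algebra is a field. -/
theorem algOf_injective (hcop : ¬ p ∣ Nat.card H) {A : Subgroup H} (hc : ∀ a ∈ A, ∀ b ∈ A, a * b = b * a)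
    (hidem : ∀ e ∈ algOf ρ A, e * e = e → e = 0 ∨ e = 1) {r : Module.End (ZMod p) V} (hr : r ∈ algOf ρ A)
    (hr0 : r ≠ 0) : Function.Injective r := by
  obtain ⟨N, hN, hpow⟩ := algOf_pow_eq (ρ := ρ) hcop hc
  have he : r ^ N * r ^ N = r ^ N := by
    obtain ⟨M, rfl⟩ := Nat.exists_eq_succ_of_ne_zero hN.ne'
    rw [← pow_add, show M.succ + M.succ = (M.succ + 1) + M by omega, pow_add, hpow r hr, ← pow_succ']
  rcases hidem _ (pow_mem hr N) he with h | h
  · exact absurd (by rw [← hpow r hr, pow_succ, h, zero_mul]) hr0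
  · intro x y hxy
    obtain ⟨M, rfl⟩ := Nat.exists_eq_succ_of_ne_zero hN.ne'
    have := congrArg (r ^ M) hxy
    rwa [← Module.End.mul_apply, ← Module.End.mul_apply, ← pow_succ, h, Module.End.one_apply,
      Module.End.one_apply] at this

/-- Then the subgroup is cyclic with irreducible minimal polynomials. -/
theorem of_injective [Nontrivial V] (hinj : Function.Injective ρ) {A : Subgroup H}
    (hc : ∀ a ∈ A, ∀ b ∈ A, a * b = b * a)
    (hR : ∀ r ∈ algOf ρ A, r ≠ 0 → Function.Injective r) :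
    IsCyclic A ∧ ∀ a ∈ A, Irreducible (minpoly (ZMod p) (ρ a)) := by
  constructor
  · letI : CommRing (algOf ρ A) :=
      { (inferInstance : Ring (algOf ρ A)) with mul_comm := fun a b => Subtype.ext (algOf_comm hc (a : Module.End (ZMod p) V) a.2 (b : Module.End (ZMod p) V) b.2) }
    haveI : NoZeroDivisors (algOf ρ A) := ⟨fun {a b} h => by
      refine or_iff_not_imp_left.2 fun ha => Subtype.ext (LinearMap.ext fun v => ?_)
      have ha' : (a : Module.End (ZMod p) V) ≠ 0 := fun e => ha (Subtype.ext e)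
      exact hR _ a.2 ha' (by
        rw [← Module.End.mul_apply, ← MulMemClass.coe_mul, h]
        simp)⟩
    haveI : Nontrivial (algOf ρ A) := ⟨⟨0, 1, fun e => zero_ne_one (congrArg Subtype.val e)⟩⟩
    haveI : IsDomain (algOf ρ A) := NoZeroDivisors.to_isDomain _
    let ψ : A →* algOf ρ A :=
      { toFun := fun a => ⟨ρ a, Algebra.subset_adjoin ⟨a, a.2, rfl⟩⟩
        map_one' := Subtype.ext (map_one ρ)
        map_mul' := fun a b => Subtype.ext (map_mul ρ _ _) }
    exact isCyclic_of_injective_ringHom ψ fun a b e => Subtype.ext (hinj (congrArg Subtype.val e))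
  intro a ha
  have hint : IsIntegral (ZMod p) (ρ a) := Algebra.IsIntegral.isIntegral _
  have hmem : ∀ f : (ZMod p)[X], aeval (ρ a) f ∈ algOf ρ A := fun f => by
    have h1 : aeval (ρ a) f ∈ Algebra.adjoin (ZMod p) {ρ a} := aeval_mem_adjoin_singleton _ _
    exact Algebra.adjoin_mono (Set.singleton_subset_iff.2 (Set.mem_image_of_mem ρ ha)) h1
  refine ⟨minpoly.not_isUnit _ _, fun f g hfg => ?_⟩
  have hm0 : minpoly (ZMod p) (ρ a) ≠ 0 := minpoly.ne_zero hint
  have h0 : aeval (ρ a) f * aeval (ρ a) g = 0 := by rw [← map_mul, ← hfg, minpoly.aeval]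
  by_cases hf : aeval (ρ a) f = 0
  · right
    obtain ⟨e, he⟩ := minpoly.dvd _ _ hf
    rw [hfg] at hm0
    have hf0 : f ≠ 0 := left_ne_zero_of_mul hm0
    refine IsUnit.of_mul_eq_one e (mul_left_cancel₀ hf0 ?_)
    rw [mul_one]
    conv_rhs => rw [he, hfg]
    ring
  · left
    have hinjf := hR _ (hmem f) hf
    have hg : aeval (ρ a) g = 0 := LinearMap.ext fun w => hinjf (by
      rw [← Module.End.mul_apply, h0]; simp)
    obtain ⟨e, he⟩ := minpoly.dvd _ _ hg
    rw [hfg] at hm0
    have hg0 : g ≠ 0 := right_ne_zero_of_mul hm0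
    refine IsUnit.of_mul_eq_one e (mul_left_cancel₀ hg0 ?_)
    rw [mul_one]
    conv_rhs => rw [he, hfg]
    ring

/-- A splitting of the space gives `p ≤ 2 k`. -/
theorem blocks (hcop : ¬ p ∣ Nat.card H) {v w : V} (hP : IsPair ρ v w) (hirr : Irr ρ)
    (h5 : 5 ≤ finrank (ZMod p) V) (A : Subgroup H) [A.Normal] (hc : ∀ a ∈ A, ∀ b ∈ A, a * b = b * a)
    {e₀ : Module.End (ZMod p) V} (he₀ : e₀ ∈ algOf ρ A) (hid : e₀ * e₀ = e₀) (hne0 : e₀ ≠ 0) (hne1 : e₀ ≠ 1) :
    p ≤ 2 * Nat.card (ConjClasses H) := by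
  classical
  set R := algOf ρ A
  have hcomm := algOf_comm (ρ := ρ) hc
  let S : Set ℕ := {d | ∃ e ∈ R, e * e = e ∧ e ≠ 0 ∧ finrank (ZMod p) (LinearMap.range e) = d}
  have hS : S.Nonempty := ⟨_, e₀, he₀, hid, hne0, rfl⟩
  obtain ⟨e, he, hee, he0, hed⟩ : ∃ e ∈ R, e * e = e ∧ e ≠ 0 ∧
      finrank (ZMod p) (LinearMap.range e) = sInf S := Nat.sInf_mem hS
  have hmin : ∀ f ∈ R, f * f = f → f ≠ 0 → sInf S ≤ finrank (ZMod p) (LinearMap.range f) :=
    fun f hf hff hf0 => Nat.sInf_le ⟨f, hf, hff, hf0, rfl⟩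
  have he1 : e ≠ 1 := by
    rintro rfl
    rw [Module.End.one_eq_id, LinearMap.range_id, finrank_top] at hed
    have h1 := hmin e₀ he₀ hid hne0
    have h2 := hmin (1 - e₀) (sub_mem (one_mem R) he₀)
      (by rw [sub_mul, one_mul, mul_sub, mul_one, hid, sub_self, sub_zero]) (sub_ne_zero.2 (Ne.symm hne1))
    rw [← hed] at h1 h2
    have ht : LinearMap.range e₀ = ⊤ := Submodule.eq_top_of_finrank_eq (le_antisymm (Submodule.finrank_le _) h1)
    refine hne1 (LinearMap.ext fun x => ?_)
    obtain ⟨y, rfl⟩ : x ∈ LinearMap.range e₀ := ht ▸ Submodule.mem_top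
    rw [← Module.End.mul_apply, hid, Module.End.one_apply]
  let cj : H → Module.End (ZMod p) V := fun g => ρ g * e * ρ g⁻¹
  have hcjR : ∀ g, cj g ∈ R := fun g => conj_mem_algOf A g e he
  have hcancel : ∀ (g : H) (X Y : Module.End (ZMod p) V), (ρ g * X * ρ g⁻¹) * (ρ g * Y * ρ g⁻¹) = ρ g * (X * Y) * ρ g⁻¹ := by
    intro g X Y
    simp only [mul_assoc]
    rw [← mul_assoc (ρ g⁻¹) (ρ g), ← map_mul, inv_mul_cancel, map_one, one_mul]
  have hcjid : ∀ g, cj g * cj g = cj g := fun g => by show _ = ρ g * e * ρ g⁻¹; rw [hcancel, hee]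
  have hcj1 : cj 1 = e := by show ρ 1 * e * ρ 1⁻¹ = e; rw [inv_one, map_one, one_mul, mul_one]
  have hcjmul : ∀ a b, cj (a * b) = ρ a * cj b * ρ a⁻¹ := fun a b => by
    simp only [cj, mul_inv_rev, map_mul, mul_assoc]
  have hcjmem : ∀ g x, cj g x = ρ g (e (ρ g⁻¹ x)) := fun g x => rfl
  have hcjrank : ∀ g, finrank (ZMod p) (LinearMap.range (cj g)) = sInf S := by
    intro g
    rw [← hed]
    let u : V ≃ₗ[ZMod p] V := LinearEquiv.ofLinearMap (ρ g) (ρ g⁻¹)
      (LinearMap.ext (conj_mul_apply' g)) (LinearMap.ext (conj_mul_apply g))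
    refine (congrArg (fun W : Submodule (ZMod p) V => finrank (ZMod p) W)
      (?_ : LinearMap.range (cj g) = (LinearMap.range e).map u.toLinearMap)).trans
      (LinearEquiv.finrank_map_eq u (LinearMap.range e))
    ext x
    simp only [Submodule.mem_map, LinearMap.mem_range]
    constructor
    · rintro ⟨y, rfl⟩
      exact ⟨e (ρ g⁻¹ y), ⟨_, rfl⟩, rfl⟩
    · rintro ⟨_, ⟨z, rfl⟩, rfl⟩
      exact ⟨ρ g z, by rw [hcjmem, conj_mul_apply]; rfl⟩
  have horth : ∀ g, e * cj g = 0 ∨ cj g = e := by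
    intro g
    by_cases h0 : e * cj g = 0
    · exact Or.inl h0
    right
    have hid' : e * cj g * (e * cj g) = e * cj g := by
      rw [mul_assoc, ← mul_assoc (cj g) e, ← hcomm e he _ (hcjR g), mul_assoc e (cj g), hcjid, ← mul_assoc, hee]
    have hm := hmin _ (mul_mem he (hcjR g)) hid' h0
    have hle1 : LinearMap.range (e * cj g) ≤ LinearMap.range e := LinearMap.range_comp_le_range _ _
    have hle2 : LinearMap.range (e * cj g) ≤ LinearMap.range (cj g) := by
      rw [hcomm e he _ (hcjR g)]; exact LinearMap.range_comp_le_range _ _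
    have heq1 := Submodule.eq_of_le_of_finrank_le hle1 (hed.trans_le hm)
    have heq2 := Submodule.eq_of_le_of_finrank_le hle2 ((hcjrank g).trans_le hm)
    have key : ∀ a ∈ R, ∀ b ∈ R, a * a = a → b * b = b → LinearMap.range a = LinearMap.range b → a = b := by
      intro a ha b hb haa hbb hr
      have e1 : a * b = b := LinearMap.ext fun x => by
        obtain ⟨y, hy⟩ : b x ∈ LinearMap.range a := hr ▸ ⟨x, rfl⟩
        rw [Module.End.mul_apply, ← hy, ← Module.End.mul_apply, haa]
      have e2 : b * a = a := LinearMap.ext fun x => by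
        obtain ⟨y, hy⟩ : a x ∈ LinearMap.range b := hr ▸ ⟨x, rfl⟩
        rw [Module.End.mul_apply, ← hy, ← Module.End.mul_apply, hbb]
      rw [← e2, ← hcomm a ha b hb, e1]
    exact key _ (hcjR g) _ he (hcjid g) hee (heq2.symm.trans heq1)
  let E : Finset (Module.End (ZMod p) V) := (Set.toFinite (Set.range cj)).toFinset
  have hE : ∀ f, f ∈ E ↔ ∃ g, cj g = f := fun f => by simp [E]
  have hpair : ∀ g g', cj g ≠ cj g' → cj g * cj g' = 0 := by
    intro g g' hne
    have h1 : cj g' = ρ g * cj (g⁻¹ * g') * ρ g⁻¹ := by rw [← hcjmul, mul_inv_cancel_left]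
    rcases horth (g⁻¹ * g') with h | h
    · rw [h1, hcancel, h, mul_zero, zero_mul]
    · exact absurd (by rw [h1, h]) hne
  have hperm : ∀ h f, f ∈ E → ρ h * f * ρ h⁻¹ ∈ E := fun h f hf => by
    obtain ⟨g, rfl⟩ := (hE f).1 hf
    exact (hE _).2 ⟨h * g, hcjmul h g⟩
  have hconjinj : ∀ h, Function.Injective fun f : Module.End (ZMod p) V => ρ h * f * ρ h⁻¹ := fun h a b hab => by
    refine LinearMap.ext fun x => ?_
    have := congrArg (fun f : Module.End (ZMod p) V => ρ h⁻¹ (f (ρ h x))) hab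
    simpa only [Module.End.mul_apply, conj_mul_apply] using this
  have himage : ∀ h, E.image (fun f => ρ h * f * ρ h⁻¹) = E := fun h =>
    Finset.eq_of_subset_of_card_le (Finset.image_subset_iff.2 fun f hf => hperm h f hf)
      (by rw [Finset.card_image_of_injective _ (hconjinj h)])
  set T := ∑ f ∈ E, f with hT
  have hTcomm : ∀ h x, T (ρ h x) = ρ h (T x) := by
    intro h x
    conv_lhs => rw [hT, ← himage h, Finset.sum_image fun a _ b _ hab => hconjinj h hab]
    rw [LinearMap.sum_apply, hT, LinearMap.sum_apply, map_sum]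
    exact Finset.sum_congr rfl fun f _ => by rw [Module.End.mul_apply, Module.End.mul_apply, conj_mul_apply]
  have heE : e ∈ E := (hE e).2 ⟨1, hcj1⟩
  have hTf : ∀ f ∈ E, T * f = f := fun f hf => by
    rw [hT, Finset.sum_mul, Finset.sum_eq_single f]
    · obtain ⟨g, rfl⟩ := (hE f).1 hf; exact hcjid g
    · intro f' hf' hne
      obtain ⟨g, rfl⟩ := (hE f).1 hf
      obtain ⟨g', rfl⟩ := (hE f').1 hf'
      exact hpair g' g hne
    · exact fun h => absurd hf h
  have hT1 : T = 1 := by
    have hTT : T * T = T := by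
      conv_lhs => arg 2; rw [hT]
      rw [Finset.mul_sum, Finset.sum_congr rfl hTf]
    have hr := hirr (LinearMap.range T) (by
      rintro h _ ⟨y, rfl⟩
      exact ⟨ρ h y, hTcomm h y⟩)
    rcases hr with hr | hr
    · exfalso
      rw [LinearMap.range_eq_bot] at hr
      exact he0 (by rw [← hTf e heE, hr, zero_mul])
    · refine LinearMap.ext fun x => ?_
      obtain ⟨y, rfl⟩ : x ∈ LinearMap.range T := hr ▸ Submodule.mem_top
      rw [← Module.End.mul_apply, hTT, Module.End.one_apply]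
  have hEne : ∀ f ∈ E, f ≠ 0 := fun f hf h => by
    obtain ⟨g, rfl⟩ := (hE f).1 hf
    refine he0 (hconjinj g ?_)
    show cj g = ρ g * 0 * ρ g⁻¹
    rw [h, mul_zero, zero_mul]
  have hortho : ∀ f ∈ E, ∀ f' ∈ E, f ≠ f' → ∀ x, f (f' x) = 0 := fun f hf f' hf' hne x => by
    obtain ⟨g, rfl⟩ := (hE f).1 hf
    obtain ⟨g', rfl⟩ := (hE f').1 hf'
    rw [← Module.End.mul_apply, hpair g g' hne, LinearMap.zero_apply]
  have hidE : ∀ f ∈ E, ∀ x, f (f x) = f x := fun f hf x => by
    obtain ⟨g, rfl⟩ := (hE f).1 hf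
    rw [← Module.End.mul_apply, hcjid]
  let cnt : V → ℕ := fun x => (E.filter fun f => f x ≠ 0).card
  have hcnt : ∀ h x, cnt (ρ h x) = cnt x := by
    intro h x
    show (E.filter fun f => f (ρ h x) ≠ 0).card = _
    conv_lhs => rw [← himage h, Finset.filter_image, Finset.card_image_of_injective _ (hconjinj h)]
    congr 1
    refine Finset.filter_congr fun f _ => not_congr ⟨fun h' => ?_, fun h' => ?_⟩
    · rw [Module.End.mul_apply, Module.End.mul_apply, conj_mul_apply] at h'
      by_contra hne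
      exact rho_ne_zero h hne h'
    · rw [Module.End.mul_apply, Module.End.mul_apply, conj_mul_apply, h', map_zero]
  have horb : ∀ {x y : V}, y ∈ orb ρ x → cnt y = cnt x := by rintro x _ ⟨h, rfl⟩; exact hcnt h x
  have hcnt_of : ∀ (Z : Finset (Module.End (ZMod p) V)) (x : V), Z ⊆ E → (∀ f ∈ E, f x ≠ 0 ↔ f ∈ Z) → cnt x = Z.card := by
    intro Z x hZ h
    refine congrArg Finset.card (Finset.ext fun f => ?_)
    rw [Finset.mem_filter]
    exact ⟨fun hf => (h f hf.1).1 hf.2, fun hf => ⟨hZ hf, (h f (hZ hf)).2 hf⟩⟩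
  have hwit : ∀ f ∈ E, ∃ x, f x ≠ 0 := fun f hf => by
    by_contra h
    push Not at h
    exact hEne f hf (LinearMap.ext h)
  obtain ⟨e', he', hne'⟩ : ∃ e' ∈ E, e' ≠ e := by
    by_contra h
    push Not at h
    refine he1 ?_
    rw [← hT1, hT, Finset.sum_eq_single e (fun f hf hne => absurd (h f hf) hne) fun h => absurd heE h]
  obtain ⟨x1, hx1⟩ := hwit e heE
  obtain ⟨x2, hx2⟩ := hwit e' he'
  have hc1 : cnt (e x1) = 1 := by
    refine (hcnt_of {e} _ (by simpa using heE) fun f hf => ?_).trans (Finset.card_singleton e)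
    rw [Finset.mem_singleton]
    exact ⟨fun h => by_contra fun hne => h (hortho f hf e heE hne x1),
      fun h => by subst h; rw [hidE f hf]; exact hx1⟩
  have hc2 : cnt (e x1 + e' x2) = 2 := by
    refine (hcnt_of {e, e'} _ (Finset.insert_subset_iff.2 ⟨heE, by simpa using he'⟩) fun f hf => ?_).trans
      (Finset.card_pair hne'.symm)
    rw [Finset.mem_insert, Finset.mem_singleton, map_add]
    constructor
    · intro h
      by_contra hno
      push Not at hno
      rw [hortho f hf e heE hno.1, hortho f hf e' he' hno.2, add_zero] at h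
      exact h rfl
    · rintro (rfl | rfl)
      · rw [hidE f hf, hortho f hf e' he' hne'.symm, add_zero]; exact hx1
      · rw [hidE f hf, hortho f hf e heE hne', zero_add]; exact hx2
  have hne12 : e x1 ≠ 0 ∧ e x1 + e' x2 ≠ 0 := by
    have hz : cnt 0 = 0 := by simp [cnt]
    exact ⟨fun h => by rw [h, hz] at hc1; omega, fun h => by rw [h, hz] at hc2; omega⟩
  have honly : ∀ f ∈ E, f = e ∨ f = e' := by
    intro f hf
    by_contra hno
    push Not at hno
    obtain ⟨x3, hx3⟩ := hwit f hf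
    have hc3 : cnt (e x1 + e' x2 + f x3) = 3 := by
      refine (hcnt_of {e, e', f} _ (Finset.insert_subset_iff.2 ⟨heE, Finset.insert_subset_iff.2 ⟨he', by simpa using hf⟩⟩)
        fun g hg => ?_).trans (Finset.card_eq_three.2 ⟨e, e', f, hne'.symm, hno.1.symm, hno.2.symm, rfl⟩)
      simp only [Finset.mem_insert, Finset.mem_singleton, map_add]
      constructor
      · intro h
        by_contra hne
        push Not at hne
        rw [hortho g hg e heE hne.1, hortho g hg e' he' hne.2.1, hortho g hg f hf hne.2.2, add_zero, add_zero] at h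
        exact h rfl
      · rintro (rfl | rfl | rfl)
        · rw [hidE g hg, hortho g hg e' he' hne'.symm, hortho g hg f hf hno.1.symm, add_zero, add_zero]; exact hx1
        · rw [hidE g hg, hortho g hg e heE hne', hortho g hg f hf hno.2.symm, zero_add, add_zero]; exact hx2
        · rw [hidE g hg, hortho g hg e heE hno.1, hortho g hg e' he' hno.2, zero_add, zero_add]; exact hx3
    have hne3 : e x1 + e' x2 + f x3 ≠ 0 := fun h => by
      have hz : cnt 0 = 0 := by simp [cnt]
      rw [h, hz] at hc3; omega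
    rcases hP.two_of_three hne12.1 hne12.2 hne3 with h | h | h <;> have := horb h <;> omega
  have hsum2 : e + e' = 1 := by
    rw [← hT1, hT, show E = {e, e'} from Finset.ext fun f => ?_, Finset.sum_pair hne'.symm]
    rw [Finset.mem_insert, Finset.mem_singleton]
    exact ⟨honly f, fun h => h.elim (fun h => h ▸ heE) fun h => h ▸ he'⟩
  obtain ⟨g₁, hg₁⟩ := (hE e').1 he'
  let L : Subgroup H :=
    { carrier := {h | cj h = e}
      one_mem' := hcj1
      mul_mem' := fun {a b} (ha : cj a = e) (hb : cj b = e) => by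
        show cj (a * b) = e
        rw [hcjmul, hb]; exact ha
      inv_mem' := fun {a} (ha : cj a = e) => by
        show cj a⁻¹ = e
        have h2 : cj (a⁻¹ * a) = ρ a⁻¹ * cj a * ρ (a⁻¹)⁻¹ := hcjmul _ _
        rw [inv_mul_cancel, hcj1, ha] at h2
        exact h2.symm }
  have hLidx : L.index ≤ 2 := by
    rw [Subgroup.index]
    refine le_trans (Nat.card_le_card_of_injective (Quotient.lift (fun h : H => (⟨cj h, (hE _).2 ⟨h, rfl⟩⟩ : E)) ?_) ?_) ?_
    · intro a b h
      have h' : cj (a⁻¹ * b) = e := QuotientGroup.leftRel_apply.1 h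
      refine Subtype.ext ?_
      show cj a = cj b
      conv_rhs => rw [← mul_inv_cancel_left a b, hcjmul, h']
    · rintro ⟨a⟩ ⟨b⟩ h
      have h' : cj a = cj b := congrArg Subtype.val h
      refine Quotient.sound (QuotientGroup.leftRel_apply.2 ?_)
      show cj (a⁻¹ * b) = e
      rw [hcjmul, ← h', ← hcjmul, inv_mul_cancel, hcj1]
    · rw [Nat.card_eq_fintype_card, Fintype.card_coe]
      exact (Finset.card_le_card (t := {e, e'}) fun f hf => by
        rw [Finset.mem_insert, Finset.mem_singleton]; exact honly f hf).trans Finset.card_le_two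
  set W := LinearMap.range e
  have hWL : ∀ l ∈ L, ∀ x ∈ W, ρ l x ∈ W := by
    rintro l (hl : cj l = e) _ ⟨y, rfl⟩
    refine ⟨ρ l y, ?_⟩
    conv_lhs => rw [← hl, hcjmem, conj_mul_apply]
  let τ : L →* Module.End (ZMod p) W :=
    { toFun := fun l => (ρ (l : H)).restrict (hWL l l.2)
      map_one' := LinearMap.ext fun x => Subtype.ext (by
        show ρ ((1 : L) : H) (x : V) = x
        rw [OneMemClass.coe_one, map_one]; rfl)
      map_mul' := fun a b => LinearMap.ext fun x => Subtype.ext (by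
        show ρ ((a * b : L) : H) (x : V) = ρ (a : H) (ρ (b : H) x)
        rw [Subgroup.coe_mul, map_mul]; rfl) }
  haveI : Nontrivial W := Submodule.nontrivial_iff_ne_bot.2 fun h => he0 (LinearMap.range_eq_bot.1 h)
  have htr : ∀ x y : W, x ≠ 0 → y ≠ 0 → ∃ t : τ.toHomUnits.range, (Units.coeHom _).comp τ.toHomUnits.range.subtype t x = y := by
    rintro ⟨x, hx⟩ ⟨y, hy⟩ hx0 hy0
    have hx0' : x ≠ 0 := fun h => hx0 (Subtype.ext h)
    have hy0' : y ≠ 0 := fun h => hy0 (Subtype.ext h)
    obtain ⟨x', rfl⟩ := hx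
    obtain ⟨y', rfl⟩ := hy
    have c1 : ∀ z, e z ≠ 0 → cnt (e z) = 1 := fun z hz => by
      refine (hcnt_of {e} _ (by simpa using heE) fun f hf => ?_).trans (Finset.card_singleton e)
      rw [Finset.mem_singleton]
      exact ⟨fun h => by_contra fun hne => h (hortho f hf e heE hne z), fun h => by subst h; rw [hidE f hf]; exact hz⟩
    have horbit : e y' ∈ orb ρ (e x') := by
      rcases hP.two_of_three hx0' hy0' hne12.2 with h | h | h
      · exact h
      · have := horb h; rw [c1 x' hx0'] at this; omega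
      · have := horb h; rw [c1 y' hy0'] at this; omega
    obtain ⟨h, hh⟩ := horbit
    have hL : h ∈ L := by
      show cj h = e
      by_contra hne
      refine hy0' ?_
      have h1 : cj h (e y') = e y' := by
        rw [← show ρ h (e x') = e y' from hh, hcjmem, conj_mul_apply, hidE e heE]
      rw [← hidE e heE, ← h1, ← Module.End.mul_apply, (horth h).resolve_right hne, LinearMap.zero_apply]
    exact ⟨⟨τ.toHomUnits ⟨h, hL⟩, ⟨h, hL⟩, rfl⟩, Subtype.ext hh⟩
  have hcopT : ¬ p ∣ Nat.card τ.toHomUnits.range := fun h =>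
    hcop (h.trans ((Subgroup.card_range_dvd τ.toHomUnits).trans (Subgroup.card_subgroup_dvd_card L)))
  have hkle : Nat.card (ConjClasses τ.toHomUnits.range) ≤ Nat.card (ConjClasses L) :=
    Nat.card_le_card_of_surjective (ConjClasses.map τ.toHomUnits.rangeRestrict)
      (ConjClasses.map_surjective τ.toHomUnits.rangeRestrict_surjective)
  have hkL := (Cfsg.Lib.Counting.classNumber_bounds L).1
  have hdim : 3 ≤ finrank (ZMod p) W := by
    have h1 := hcjrank g₁
    rw [hg₁] at h1
    have h2 : (⊤ : Submodule (ZMod p) V) ≤ W ⊔ LinearMap.range e' := fun x _ => by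
      rw [← show e x + e' x = x from LinearMap.congr_fun hsum2 x]
      exact Submodule.add_mem_sup ⟨x, rfl⟩ ⟨x, rfl⟩
    have h3 := Submodule.finrank_mono h2
    rw [finrank_top] at h3
    have h4 := Submodule.finrank_add_le_finrank_add_finrank W (LinearMap.range e')
    have h5' : finrank (ZMod p) W = sInf S := hed
    omega
  haveI : Finite τ.toHomUnits.range := Finite.of_surjective _ τ.toHomUnits.rangeRestrict_surjective
  rcases coprime_transitive (ρ := (Units.coeHom _).comp τ.toHomUnits.range.subtype)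
    (Units.val_injective.comp Subtype.val_injective) hcopT htr with h | ⟨h, -⟩ | ⟨-, h, -⟩
  · calc p ≤ Nat.card (ConjClasses L) := h.trans hkle
      _ ≤ L.index * Nat.card (ConjClasses H) := hkL
      _ ≤ 2 * Nat.card (ConjClasses H) := Nat.mul_le_mul_right _ hLidx
  · omega
  · omega

/-- A normal abelian subgroup: the bound, or a field. -/
theorem normal_abelian [Nontrivial V] (hinj : Function.Injective ρ) (hcop : ¬ p ∣ Nat.card H) {v w : V}
    (hP : IsPair ρ v w) (hirr : Irr ρ) (h5 : 5 ≤ finrank (ZMod p) V) (A : Subgroup H) [A.Normal]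
    (hc : ∀ a ∈ A, ∀ b ∈ A, a * b = b * a) :
    p ≤ 2 * Nat.card (ConjClasses H) ∨ (IsCyclic A ∧ ∀ a ∈ A, Irreducible (minpoly (ZMod p) (ρ a))) := by
  by_cases h : ∃ e ∈ algOf ρ A, e * e = e ∧ e ≠ 0 ∧ e ≠ 1
  · obtain ⟨e, he, hee, h0, h1⟩ := h
    exact Or.inl (blocks hcop hP hirr h5 A hc he hee h0 h1)
  · push Not at h
    exact Or.inr (of_injective hinj hc fun r hr hr0 => algOf_injective hcop hc
      (fun e he hee => or_iff_not_imp_left.2 (h e he hee)) hr hr0)

/-- The degree of the irreducible minimal polynomial of an element of prime order. -/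
theorem natDegree_eq_orderOf (hinj : Function.Injective ρ) {s : ℕ} [hs : Fact s.Prime] (hsp : s ≠ p) {x : H}
    (hx : orderOf x = s) (hirrx : Irreducible (minpoly (ZMod p) (ρ x))) :
    (minpoly (ZMod p) (ρ x)).natDegree = orderOf (p : ZMod s) := by
  set m := minpoly (ZMod p) (ρ x)
  have hdvd : m ∣ (X - C 1) * cyclotomic s (ZMod p) := by
    rw [mul_comm, map_one, cyclotomic_prime_mul_X_sub_one]
    refine minpoly.dvd _ _ ?_
    rw [map_sub, map_pow, aeval_X, map_one, ← map_pow, ← hx, pow_orderOf_eq_one, map_one, sub_self]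
  rcases hirrx.prime.dvd_mul.1 hdvd with h | h
  · exfalso
    obtain ⟨c, hc'⟩ := h
    have h1 : aeval (ρ x) (X - C (1 : ZMod p)) = 0 := by rw [hc', map_mul, minpoly.aeval, zero_mul]
    rw [map_sub, aeval_X, aeval_C, map_one, sub_eq_zero] at h1
    have hx1 : x = 1 := hinj (by rw [map_one]; exact h1)
    rw [hx1, orderOf_one] at hx
    exact hs.out.one_lt.ne hx
  · rw [natDegree_of_dvd_cyclotomic_of_irreducible (K := ZMod p) (f := 1) (by rw [ZMod.card, pow_one])
      ((Nat.coprime_primes hp.out hs.out).2 (Ne.symm hsp)) h hirrx, ← orderOf_units, ZMod.coe_unitOfCoprime,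
      pow_one]

/-- A normal `s`-subgroup: the bound, or a normal subgroup of order `s` with small index of centraliser. -/
theorem normal_pgroup [Nontrivial V] (hinj : Function.Injective ρ) (hcop : ¬ p ∣ Nat.card H) {v w : V}
    (hP : IsPair ρ v w) (hirr : Irr ρ) (h5 : 5 ≤ finrank (ZMod p) V) {s : ℕ} [hs : Fact s.Prime] (hsp : s ≠ p)
    {Q : Subgroup H} [Q.Normal] (hQ : IsPGroup s Q) (hne : Q ≠ ⊥) :
    p ≤ 2 * Nat.card (ConjClasses H) ∨ ∃ x : H, orderOf x = s ∧ (zpowers x).Normal ∧
      Irreducible (minpoly (ZMod p) (ρ x)) ∧ (minpoly (ZMod p) (ρ x)).natDegree = orderOf (p : ZMod s) ∧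
      (centralizer ({x} : Set H)).index ≤ orderOf (p : ZMod s) := by
  classical
  set A := Q ⊓ centralizer (Q : Set H)
  have hc : ∀ a ∈ A, ∀ b ∈ A, a * b = b * a := fun a ha b hb =>
    Subgroup.mem_centralizer_iff.1 hb.2 a ha.1
  rcases normal_abelian hinj hcop hP hirr h5 A hc with h | ⟨hcyc, hmin⟩
  · exact Or.inl h
  right
  haveI : Nontrivial Q := (Subgroup.nontrivial_iff_ne_bot Q).2 hne
  haveI := hQ.center_nontrivial
  obtain ⟨x, hx⟩ : ∃ x : A, orderOf x = s := by
    obtain ⟨⟨z, hz⟩, hz1⟩ := exists_ne (1 : center Q)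
    have hzA : (z : H) ∈ A := ⟨z.2, Subgroup.mem_centralizer_iff.2 fun y hy =>
      congrArg Subtype.val (Subgroup.mem_center_iff.1 hz ⟨y, hy⟩)⟩
    haveI : Nontrivial A := ⟨⟨⟨z, hzA⟩, 1, fun h => hz1 (Subtype.ext (Subtype.ext (congrArg Subtype.val h :)))⟩⟩
    obtain ⟨m, hm0, hm⟩ := (hQ.to_le (inf_le_left : A ≤ Q)).nontrivial_iff_card.1 inferInstance
    exact exists_prime_orderOf_dvd_card' (G := A) s (hm ▸ dvd_pow_self s hm0.ne')
  obtain ⟨x, hxA⟩ := x
  rw [Subgroup.orderOf_mk] at hx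
  haveI := hcyc
  have hzn : (zpowers x).Normal := ⟨fun y hy g => by
    have hgy : zpowers (g * x * g⁻¹) = zpowers x :=
      Cfsg.Lib.SolvStruct.CyclicProduct.eq_of_card_eq_of_isCyclic (A := A)
        (zpowers_le.2 ((inferInstance : A.Normal).conj_mem x hxA g)) (zpowers_le.2 hxA) (by
          rw [Nat.card_zpowers, Nat.card_zpowers]
          exact (MulAut.conj g).orderOf_eq x)
    obtain ⟨i, rfl⟩ := mem_zpowers_iff.1 hy
    rw [show g * x ^ i * g⁻¹ = (g * x * g⁻¹) ^ i from conj_zpow.symm]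
    exact zpow_mem (hgy ▸ mem_zpowers _) i⟩
  have hirrx := hmin x hxA
  have hdeg := natDegree_eq_orderOf hinj hsp hx hirrx
  refine ⟨x, hx, hzn, hirrx, hdeg, ?_⟩
  have h1 : Nat.card (ConjClasses.mk x).carrier = (centralizer ({x} : Set H)).index :=
    Nat.eq_of_mul_eq_mul_right Nat.card_pos (by rw [card_carrier_mul, Subgroup.index_mul_card])
  rw [← h1, ← hdeg]
  refine le_trans ?_ (conj_pow_count_minpoly hinj hs.out hx hsp)
  have hex : ∀ y : (ConjClasses.mk x).carrier, ∃ i : Fin s, IsConj x (x ^ (i : ℕ)) ∧ x ^ (i : ℕ) = y.1 := by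
    rintro ⟨y, hy⟩
    have hc' : IsConj x y := (ConjClasses.mk_eq_mk_iff_isConj.1 (ConjClasses.mem_carrier_iff_mk_eq.1 hy)).symm
    obtain ⟨e, he⟩ := isConj_iff.1 hc'
    have hyX : y ∈ zpowers x := he ▸ hzn.conj_mem x (mem_zpowers x) e
    rw [← mem_powers_iff_mem_zpowers, Submonoid.mem_powers_iff] at hyX
    obtain ⟨i, rfl⟩ := hyX
    have hmod : x ^ (i % s) = x ^ i := by conv_rhs => rw [← pow_mod_orderOf, hx]
    exact ⟨⟨i % s, Nat.mod_lt _ hs.out.pos⟩, by show IsConj x (x ^ (i % s)); rw [hmod]; exact hc', hmod⟩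
  choose f hf1 hf2 using hex
  refine Nat.card_le_card_of_injective (fun y => ⟨f y, hf1 y⟩) fun y y' h => ?_
  exact Subtype.ext (by rw [← hf2, ← hf2, show f y = f y' from congrArg Subtype.val h])

end Cfsg.Lib.Blocks.ThreeClasses
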